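import Groth.Agent.EtBCA.BCQ.Paste
import Groth.Agent.DualLib.Pull
import Groth.Agent.EtFound.FiniteBaseChange

/-!
# Base change along an etale morphism
-/

set_option autoImplicit false
set_option linter.style.haveILetI false

universe v₁ v₂ v₃ v₄ u₁ u₂ u₃ u₄ u

open CategoryTheory CategoryTheory.Limits AlgebraicGeometry Opposite HomologicalComplex

noncomputable section

namespace Groth.Agent.EtBCA.BCQ

section Abstract

set_option backward.isDefEq.respectTransparency false

variable {A : Type u₁} [Category.{v₁} A] [Abelian A] [HasInjectiveResolutions A]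
  {B : Type u₂} [Category.{v₂} B] [Abelian B] [HasInjectiveResolutions B]
  {C : Type u₃} [Category.{v₃} C] [Abelian C]
  {D : Type u₄} [Category.{v₄} D] [Abelian D]
  {Φ : A ⥤ C} [Φ.Additive] {Ψ : B ⥤ D} [Ψ.Additive]
  {E : A ⥤ B} [E.Additive] [PreservesFiniteLimits E] [PreservesFiniteColimits E]
  {G : C ⥤ D} [G.Additive] [PreservesFiniteLimits G] [PreservesFiniteColimits G]
  (β : Φ ⋙ G ⟶ E ⋙ Ψ)

/-- `bc` is an isomorphism if `E` preserves injectives and `β` is invertible -/
theorem isIso_bc_of_preservesInjectives [E.PreservesInjectiveObjects] (hβ : ∀ X, IsIso (β.app X)) (q : ℕ)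
    (X : A) : IsIso (bc β q X) := by
  let I := injectiveResolution X
  let J : InjectiveResolution (E.obj X) :=
    { cocomplex := (E.mapHomologicalComplex _).obj I.cocomplex
      injective := fun n => Functor.PreservesInjectiveObjects.injective_obj (I.injective n)
      ι := mapι E I }
  have hd : IsLift I J (𝟙 _) := (Category.comp_id _).trans (mapι_f_zero E I).symm
  rw [bc_eq β q I J (𝟙 _) hd]
  dsimp only [form]
  have : IsIso (natMap β I.cocomplex) :=
    have : ∀ n, IsIso ((natMap β I.cocomplex).f n) := fun n => hβ _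
    HomologicalComplex.Hom.isIso_of_components _
  have : IsIso (natMap β I.cocomplex ≫ (Ψ.mapHomologicalComplex _).map (𝟙 J.cocomplex)) := inferInstance
  have : IsIso (homologyMap (natMap β I.cocomplex ≫ (Ψ.mapHomologicalComplex _).map (𝟙 J.cocomplex)) q) :=
    Functor.map_isIso (HomologicalComplex.homologyFunctor D _ q) _
  infer_instance

end Abstract

set_option backward.isDefEq.respectTransparency.types false

variable {X S X' S' : Scheme.{u}} {f : X ⟶ S} {g : S' ⟶ S} {f' : X' ⟶ S'} {g' : X' ⟶ X}
  [AlgebraicGeometry.Etale g] [AlgebraicGeometry.Etale g']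

omit [AlgebraicGeometry.Etale g] [AlgebraicGeometry.Etale g'] in
theorem sq_cond (c : IsPullback g' f' f g) {W : Scheme.{u}} (w : W ⟶ S') :
    pullback.fst w f' ≫ w ≫ g = (pullback.snd w f' ≫ g') ≫ f := by
  rw [pullback.condition_assoc, Category.assoc, c.w]

/-- the comparison of the two fibre products -/
def sqLeft (c : IsPullback g' f' f g) {W : Scheme.{u}} (w : W ⟶ S') :
    pullback (w ≫ g) f ≅ pullback w f' where
  hom := pullback.lift (pullback.fst (w ≫ g) f)
    (c.lift (pullback.snd (w ≫ g) f) (pullback.fst (w ≫ g) f ≫ w)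
      (pullback.condition.symm.trans (Category.assoc _ _ _).symm))
    (c.lift_snd _ _ _).symm
  inv := pullback.lift (pullback.fst w f') (pullback.snd w f' ≫ g') (sq_cond c w)
  hom_inv_id := by
    apply pullback.hom_ext
    · rw [Category.assoc, pullback.lift_fst, pullback.lift_fst, Category.id_comp]
    · rw [Category.assoc, pullback.lift_snd, pullback.lift_snd_assoc, c.lift_fst, Category.id_comp]
  inv_hom_id := by
    apply pullback.hom_ext
    · rw [Category.assoc, pullback.lift_fst, pullback.lift_fst, Category.id_comp]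
    · rw [Category.assoc, pullback.lift_snd, Category.id_comp]
      apply c.hom_ext
      · rw [Category.assoc, c.lift_fst, pullback.lift_snd]
      · rw [Category.assoc, c.lift_snd, pullback.lift_fst_assoc, pullback.condition]

omit [AlgebraicGeometry.Etale g] [AlgebraicGeometry.Etale g'] in
theorem sqLeft_hom_snd (c : IsPullback g' f' f g) {W : Scheme.{u}} (w : W ⟶ S') :
    (sqLeft c w).hom ≫ pullback.snd w f' ≫ g' = pullback.snd (w ≫ g) f := by
  dsimp only [sqLeft]
  rw [pullback.lift_snd_assoc, c.lift_fst]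

omit [AlgebraicGeometry.Etale g] [AlgebraicGeometry.Etale g'] in
theorem sqLeft_inv_fst (c : IsPullback g' f' f g) {W : Scheme.{u}} (w : W ⟶ S') :
    (sqLeft c w).inv ≫ pullback.fst (w ≫ g) f = pullback.fst w f' := pullback.lift_fst _ _ _

omit [AlgebraicGeometry.Etale g] [AlgebraicGeometry.Etale g'] in
theorem sqLeft_inv_snd (c : IsPullback g' f' f g) {W : Scheme.{u}} (w : W ⟶ S') :
    (sqLeft c w).inv ≫ pullback.snd (w ≫ g) f = pullback.snd w f' ≫ g' := pullback.lift_snd _ _ _

omit [AlgebraicGeometry.Etale g] [AlgebraicGeometry.Etale g'] in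
theorem sqLeft_natural (c : IsPullback g' f' f g) {W W' : Scheme.{u}} (w : W ⟶ S') (w' : W' ⟶ S')
    (a : W' ⟶ W) (ha : a ≫ w = w') (h1 h2) :
    (sqLeft c w').inv ≫ pullback.lift (f := w ≫ g) (g := f) (pullback.fst (w' ≫ g) f ≫ a) (pullback.snd _ _) h1 =
      pullback.lift (f := w) (g := f') (pullback.fst w' f' ≫ a) (pullback.snd _ _) h2 ≫ (sqLeft c w).inv := by
  apply pullback.hom_ext
  · refine (Category.assoc _ _ _).trans ((congrArg (_ ≫ ·) (pullback.lift_fst _ _ _)).trans ?_)
    refine (Category.assoc _ _ _).symm.trans ((congrArg (· ≫ a) (sqLeft_inv_fst c w')).trans ?_)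
    exact ((Category.assoc _ _ _).trans ((congrArg (_ ≫ ·) (sqLeft_inv_fst c w)).trans (pullback.lift_fst _ _ _))).symm
  · refine (Category.assoc _ _ _).trans ((congrArg (_ ≫ ·) (pullback.lift_snd _ _ _)).trans ?_)
    refine (sqLeft_inv_snd c w').trans ?_
    exact ((Category.assoc _ _ _).trans ((congrArg (_ ≫ ·) (sqLeft_inv_snd c w)).trans
      ((Category.assoc _ _ _).symm.trans (congrArg (· ≫ g') (pullback.lift_snd _ _ _))))).symm

/-- the comparison of the two ways of restricting -/
def sqObjIso (c : IsPullback g' f' f g) (W : S'.Etale) :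
    (EtCoh.bc f).obj ((EtShriek.compEtale g).obj W) ≅ (EtShriek.compEtale g').obj ((EtCoh.bc f').obj W) :=
  MorphismProperty.Over.isoMk (sqLeft c W.hom) (sqLeft_hom_snd c W.hom)

variable [EtShriek.JCont g] [EtShriek.JCont g']

/-- restriction commutes with direct image -/
def psi (c : IsPullback g' f' f g) (F : EtCoh.Ab X) :
    (EtShriek.restrAlong g).obj ((EtCoh.push f).obj F) ⟶ (EtCoh.push f').obj ((EtShriek.restrAlong g').obj F) :=
  ⟨{ app := fun W => F.obj.map (sqObjIso c W.unop).inv.op
     naturality := fun W W' φ => by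
      refine (F.obj.map_comp _ _).symm.trans (Eq.trans ?_ (F.obj.map_comp _ _))
      refine congrArg F.obj.map (Quiver.Hom.unop_inj (MorphismProperty.Over.Hom.ext ?_))
      show (sqLeft c _).inv ≫ ((EtCoh.bc f).map ((EtShriek.compEtale g).map φ.unop)).left =
        ((EtShriek.compEtale g').map ((EtCoh.bc f').map φ.unop)).left ≫ (sqLeft c _).inv
      exact sqLeft_natural c _ _ φ.unop.left (MorphismProperty.Over.w φ.unop) _ _ }⟩

theorem psi_isIso (c : IsPullback g' f' f g) (F : EtCoh.Ab X) : IsIso (psi c F) := by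
  have : ∀ W, IsIso ((psi c F).hom.app W) := fun W => inferInstanceAs (IsIso (F.obj.map _))
  have : IsIso ((sheafToPresheaf _ _).map (psi c F)) := NatIso.isIso_of_isIso_app (psi c F).hom
  exact isIso_of_reflects_iso (psi c F) (sheafToPresheaf _ _)

theorem isIso_baseChange0_etale (c : IsPullback g' f' f g) (F : EtCoh.Ab X) :
    IsIso (EtCoh.baseChange0 f g f' g' c.w F) := by
  have key : (DualLib.restrPullIso g).hom.app ((EtCoh.push f).obj F) ≫ EtCoh.baseChange0 f g f' g' c.w F =
      psi c F ≫ (EtCoh.push f').map ((DualLib.restrPullIso g').hom.app F) := by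
    apply ((DualLib.restrPushAdj g).homEquiv _ _).injective
    rw [Adjunction.homEquiv_unit, Adjunction.homEquiv_unit, Functor.map_comp, Functor.map_comp,
      ← Category.assoc, ← DualLib.unit_eq]
    apply ObjectProperty.hom_ext
    apply NatTrans.ext
    funext V
    refine (EtFound.baseChange0_unit f g f' g' c.w F V.unop).trans ?_
    rw [DualLib.unit_eq g']
    let r := (DualLib.restrPullIso g').hom.app F
    show (F.obj.map ((DualLib.compBcAdj g').counit.app ((EtCoh.bc f).obj V.unop)).op ≫
        r.hom.app (op ((EtCoh.bc g').obj ((EtCoh.bc f).obj V.unop)))) ≫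
      ((EtCoh.pull g').obj F).obj.map (EtFound.bcSquare c.w V.unop).op =
      F.obj.map ((EtCoh.bc f).map ((DualLib.compBcAdj g).counit.app V.unop)).op ≫
        F.obj.map (sqObjIso c ((EtCoh.bc g).obj V.unop)).inv.op ≫ r.hom.app _
    rw [Category.assoc]
    refine (congrArg (_ ≫ ·) (r.hom.naturality _).symm).trans ?_
    show F.obj.map _ ≫ F.obj.map ((EtShriek.compEtale g').map (EtFound.bcSquare c.w V.unop)).op ≫ _ = _
    rw [← F.obj.map_comp_assoc, ← F.obj.map_comp_assoc]
    refine congrArg (· ≫ _) (congrArg F.obj.map (Quiver.Hom.unop_inj (MorphismProperty.Over.Hom.ext ?_)))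
    let m := (DualLib.compBcAdj g).counit.app V.unop
    apply pullback.hom_ext
    · exact (Category.assoc _ _ _).trans ((EtFound.bcSquare_fst c.w V.unop).trans (Eq.symm
        ((Category.assoc _ _ _).trans ((congrArg (_ ≫ ·) (map_fst f m)).trans ((Category.assoc _ _ _).symm.trans
          (congrArg (· ≫ m.left) (sqLeft_inv_fst c _)))))))
    · exact (Category.assoc _ _ _).trans ((congrArg (_ ≫ ·) pullback.condition).trans
        ((Category.assoc _ _ _).symm.trans ((congrArg (· ≫ g') (MorphismProperty.Over.w (EtFound.bcSquare c.w V.unop))).trans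
          (Eq.symm ((Category.assoc _ _ _).trans ((congrArg (_ ≫ ·) (map_snd f m)).trans (sqLeft_inv_snd c _)))))))
  have := psi_isIso c F
  have i : IsIso ((DualLib.restrPullIso g).hom.app ((EtCoh.push f).obj F) ≫ EtCoh.baseChange0 f g f' g' c.w F) := by
    rw [key]; infer_instance
  exact @IsIso.of_isIso_comp_left _ _ _ _ _ _ _ inferInstance i

omit [AlgebraicGeometry.Etale g'] [EtShriek.JCont g] [EtShriek.JCont g'] in
/-- higher direct images commute with etale base change -/
theorem isIso_bcQ_etale (c : IsPullback g' f' f g) [PreservesFiniteLimits (EtCoh.pull g')] (q : ℕ)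
    (F : EtCoh.Ab X) : IsIso (EtBC.bcQ f g f' g' c.w q F) := by
  have : AlgebraicGeometry.Etale g' := MorphismProperty.of_isPullback c.flip ‹AlgebraicGeometry.Etale g›
  have := EtFound.jCont g
  have := EtFound.jCont g'
  have := DualLib.pull_preservesInjectiveObjects g'
  have := pullExact g
  rw [bcQ_eq]
  exact isIso_bc_of_preservesInjectives (beta f g f' g' c.w)
    (fun G => by rw [beta_app]; exact isIso_baseChange0_etale c G) q F

end Groth.Agent.EtBCA.BCQ
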