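import Groth.Agent.EtBCA.BCQ.Etale

/-!
# Diagram chases with the base change morphisms
-/

set_option autoImplicit false
set_option linter.style.haveILetI false

universe v u₀ u

open CategoryTheory CategoryTheory.Limits AlgebraicGeometry

noncomputable section

namespace Groth.Agent.EtBCA.BCQ

section Abstract

variable {C : Type u₀} [Category.{v} C] [Abelian C]

/-- right end: `A₁ ⟶ A₂ ⟶ A₃ ⟶ 0` over `B₁ ⟶ B₂ ⟶ B₃` -/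
theorem mono_right {A₁ A₂ A₃ B₁ B₂ B₃ : C} {a₁ : A₁ ⟶ A₂} {a₂ : A₂ ⟶ A₃} {b₁ : B₁ ⟶ B₂} {b₂ : B₂ ⟶ B₃}
    {zA : a₁ ≫ a₂ = 0} {zB : b₁ ≫ b₂ = 0}
    (hB : (ShortComplex.mk b₁ b₂ zB).Exact) [Epi a₂] (φ₁ : A₁ ⟶ B₁) (φ₂ : A₂ ⟶ B₂) (φ₃ : A₃ ⟶ B₃)
    (h₁ : a₁ ≫ φ₂ = φ₁ ≫ b₁) (h₂ : a₂ ≫ φ₃ = φ₂ ≫ b₂) (hφ₁ : Epi φ₁) (hφ₂ : Mono φ₂) : Mono φ₃ := by
  rw [Preadditive.mono_iff_cancel_zero]
  intro W x hx
  obtain ⟨W₁, p, hp, y, hy⟩ := surjective_up_to_refinements_of_epi a₂ x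
  have h0 : (y ≫ φ₂) ≫ b₂ = 0 := by
    rw [Category.assoc, ← h₂, ← reassoc_of% hy, hx, comp_zero]
  obtain ⟨W₂, p₂, hp₂, z', hz'⟩ := hB.exact_up_to_refinements (y ≫ φ₂) h0
  dsimp at z' hz'
  obtain ⟨W₃, p₃, hp₃, z, hz⟩ := surjective_up_to_refinements_of_epi φ₁ z'
  have hy' : p₃ ≫ p₂ ≫ y = z ≫ a₁ := by
    rw [← cancel_mono φ₂]
    simp only [Category.assoc, h₁, hz']
    rw [reassoc_of% hz]
  rw [← cancel_epi p, ← cancel_epi p₂, ← cancel_epi p₃, hy, reassoc_of% hy', zA]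
  simp

/-- the cokernels of the vertical maps in the middle of an exact ladder -/
theorem exists_mono_coker {A₁ A₂ A₃ B₀ B₁ B₂ B₃ A₀ : C} {a₁ : A₁ ⟶ A₂} {a₂ : A₂ ⟶ A₃}
    {b₀ : B₀ ⟶ B₁} {b₁ : B₁ ⟶ B₂} {b₂ : B₂ ⟶ B₃}
    {zA : a₁ ≫ a₂ = 0} {zB₁ : b₀ ≫ b₁ = 0} (zB : b₁ ≫ b₂ = 0)
    (hA : (ShortComplex.mk a₁ a₂ zA).Exact) (hB : (ShortComplex.mk b₀ b₁ zB₁).Exact)
    (a₀ : A₀ ⟶ A₁) (φ₀ : A₀ ⟶ B₀) (φ₁ : A₁ ⟶ B₁) (φ₂ : A₂ ⟶ B₂) (φ₃ : A₃ ⟶ B₃)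
    (h₀ : a₀ ≫ φ₁ = φ₀ ≫ b₀) (h₁ : a₁ ≫ φ₂ = φ₁ ≫ b₁) (h₂ : a₂ ≫ φ₃ = φ₂ ≫ b₂) (hφ₀ : Epi φ₀) (hφ₃ : Mono φ₃) :
    ∃ ψ : cokernel φ₁ ⟶ cokernel φ₂, Mono ψ ∧ cokernel.π φ₁ ≫ ψ = b₁ ≫ cokernel.π φ₂ := by
  have hz : φ₁ ≫ b₁ ≫ cokernel.π φ₂ = 0 := by rw [← reassoc_of% h₁, cokernel.condition, comp_zero]
  refine ⟨cokernel.desc φ₁ _ hz, ?_, cokernel.π_desc _ _ _⟩
  rw [Preadditive.mono_iff_cancel_zero]
  intro W x hx
  obtain ⟨W₁, p, hp, y, hy⟩ := surjective_up_to_refinements_of_epi (cokernel.π φ₁) x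
  have h : (y ≫ b₁) ≫ cokernel.π φ₂ = 0 := by
    rw [Category.assoc, ← cokernel.π_desc φ₁ _ hz, ← reassoc_of% hy, hx, comp_zero]
  obtain ⟨W₂, p₂, hp₂, z, hzz⟩ := (ShortComplex.exact_of_g_is_cokernel
    (ShortComplex.mk φ₂ (cokernel.π φ₂) (cokernel.condition φ₂))
    (cokernelIsCokernel φ₂)).exact_up_to_refinements (y ≫ b₁) h
  dsimp at z hzz
  have hz3 : z ≫ a₂ = 0 := by
    rw [← cancel_mono φ₃, Category.assoc, h₂, ← reassoc_of% hzz, zB]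
    simp
  obtain ⟨W₃, p₃, hp₃, c, hc⟩ := hA.exact_up_to_refinements z hz3
  dsimp at c hc
  have hd : (p₃ ≫ p₂ ≫ y - c ≫ φ₁) ≫ b₁ = 0 := by
    rw [Preadditive.sub_comp, Category.assoc, Category.assoc, hzz, Category.assoc, ← h₁,
      ← reassoc_of% hc, sub_self]
  obtain ⟨W₄, p₄, hp₄, d, hd'⟩ := hB.exact_up_to_refinements _ hd
  dsimp at d hd'
  obtain ⟨W₅, p₅, hp₅, d₀, hd₀⟩ := surjective_up_to_refinements_of_epi φ₀ d
  have key : (p₅ ≫ p₄ ≫ p₃ ≫ p₂ ≫ y) ≫ cokernel.π φ₁ = 0 := by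
    have e : p₅ ≫ p₄ ≫ p₃ ≫ p₂ ≫ y = (p₅ ≫ p₄ ≫ c + d₀ ≫ a₀) ≫ φ₁ := by
      rw [Preadditive.add_comp, Category.assoc d₀, h₀, ← reassoc_of% hd₀, ← hd', Preadditive.comp_sub,
        Preadditive.comp_sub]
      simp only [Category.assoc]
      abel
    rw [e, Category.assoc, cokernel.condition, comp_zero]
  rw [← cancel_epi p, ← cancel_epi p₂, ← cancel_epi p₃, ← cancel_epi p₄, ← cancel_epi p₅]
  simpa [hy] using key

end Abstract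

set_option backward.isDefEq.respectTransparency.types false

attribute [local instance] pullAdditive pullColimits

variable {X S X' S' : Scheme.{u}} {f : X ⟶ S} {g : S' ⟶ S} {f' : X' ⟶ S'} {g' : X' ⟶ X}
  (w : g' ≫ f = f' ≫ g) [PreservesFiniteLimits (EtCoh.pull g)] [PreservesFiniteLimits (EtCoh.pull g')]
  {E : ShortComplex (EtCoh.Ab X)}

theorem RpushAdditive (f : X ⟶ S) (q : ℕ) : (EtCoh.Rpush f q).Additive :=
  inferInstanceAs ((EtCoh.push f).rightDerived q).Additive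

attribute [local instance] RpushAdditive

/-- monomorphism in the next degree -/
theorem mono_bcQ_succ (hE : E.ShortExact) (q : ℕ) (h₂ : IsZero ((EtCoh.Rpush f (q + 1)).obj E.X₂))
    [i₁ : Epi (EtBC.bcQ f g f' g' w q E.X₂)] [i₂ : Mono (EtBC.bcQ f g f' g' w q E.X₃)] :
    Mono (EtBC.bcQ f g f' g' w (q + 1) E.X₁) := by
  obtain ⟨T, T', hT⟩ := exists_bcQ_delta f g f' g' w hE
  have := (SESResLib.exact₁' (EtCoh.push f) T q (q + 1) rfl).epi_f (h₂.eq_of_tgt _ _)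
  exact mono_right (a₁ := (EtCoh.pull g).map ((EtCoh.Rpush f q).map E.g))
    (a₂ := (EtCoh.pull g).map (T.delta (EtCoh.push f) q (q + 1) rfl))
    (zA := ((EtCoh.pull g).map_comp _ _).symm.trans
      ((congrArg _ (SESResLib.comp_delta (EtCoh.push f) T q (q + 1) rfl)).trans ((EtCoh.pull g).map_zero _ _)))
    (SESResLib.exact₃' (EtCoh.push f') T' q (q + 1) rfl)
    (EtBC.bcQ f g f' g' w q E.X₂) (EtBC.bcQ f g f' g' w q E.X₃) _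
    (bcQ_natural f g f' g' w q E.g) (hT q (q + 1) rfl) i₁ i₂

theorem exists_mono_cokernel_bcQ (hE : E.ShortExact) (q : ℕ)
    [i₁ : Epi (EtBC.bcQ f g f' g' w q E.X₃)] [i₂ : Mono (EtBC.bcQ f g f' g' w (q + 1) E.X₃)] :
    ∃ φ : cokernel (EtBC.bcQ f g f' g' w (q + 1) E.X₁) ⟶ cokernel (EtBC.bcQ f g f' g' w (q + 1) E.X₂),
      Mono φ ∧ cokernel.π (EtBC.bcQ f g f' g' w (q + 1) E.X₁) ≫ φ =
        (EtCoh.Rpush f' (q + 1)).map ((EtCoh.pull g').map E.f) ≫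
          cokernel.π (EtBC.bcQ f g f' g' w (q + 1) E.X₂) := by
  obtain ⟨T, T', hT⟩ := exists_bcQ_delta f g f' g' w hE
  refine exists_mono_coker (a₁ := (EtCoh.pull g).map ((EtCoh.Rpush f (q + 1)).map E.f))
    (a₂ := (EtCoh.pull g).map ((EtCoh.Rpush f (q + 1)).map E.g))
    (zA := by
      exact ((EtCoh.pull g).map_comp _ _).symm.trans
        ((congrArg _ (((EtCoh.Rpush f (q + 1)).map_comp _ _).symm.trans
          ((congrArg _ E.zero).trans ((EtCoh.Rpush f (q + 1)).map_zero _ _)))).trans ((EtCoh.pull g).map_zero _ _)))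
    (zB₁ := SESResLib.delta_comp (EtCoh.push f') T' q (q + 1) rfl)
    (b₂ := (EtCoh.Rpush f' (q + 1)).map ((EtCoh.pull g').map E.g))
    (((EtCoh.Rpush f' (q + 1)).map_comp _ _).symm.trans
      ((congrArg _ (((EtCoh.pull g').map_comp _ _).symm.trans
        ((congrArg _ E.zero).trans ((EtCoh.pull g').map_zero _ _)))).trans
          ((EtCoh.Rpush f' (q + 1)).map_zero _ _)))
    ((SESResLib.exact_map (EtCoh.push f) T (q + 1)).map (EtCoh.pull g))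
    (SESResLib.exact₁' (EtCoh.push f') T' q (q + 1) rfl)
    ((EtCoh.pull g).map (T.delta (EtCoh.push f) q (q + 1) rfl))
    (EtBC.bcQ f g f' g' w q E.X₃) _ _ (EtBC.bcQ f g f' g' w (q + 1) E.X₃)
    (hT q (q + 1) rfl) (bcQ_natural f g f' g' w (q + 1) E.f) (bcQ_natural f g f' g' w (q + 1) E.g) i₁ i₂

end Groth.Agent.EtBCA.BCQ
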