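import Groth.Agent.EtBCA.BCQ.Transpose

/-!
# Base change maps of a composite
-/

set_option autoImplicit false
set_option backward.isDefEq.respectTransparency false

universe v₁ v₂ v₃ v₄ v₅ v₆ u₁ u₂ u₃ u₄ u₅ u₆

open CategoryTheory CategoryTheory.Limits HomologicalComplex

noncomputable section

namespace Groth.Agent.EtBCA.BCQ

variable {A : Type u₁} [Category.{v₁} A] [Abelian A] [HasInjectiveResolutions A]
  {B : Type u₂} [Category.{v₂} B] [Abelian B] [HasInjectiveResolutions B]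
  {C : Type u₃} [Category.{v₃} C] [Abelian C]
  {D : Type u₄} [Category.{v₄} D] [Abelian D]
  {Φ : A ⥤ C} [Φ.Additive] {Ψ : B ⥤ D} [Ψ.Additive]
  {E : A ⥤ B} [E.Additive] [PreservesFiniteLimits E] [PreservesFiniteColimits E]
  {G : C ⥤ D} [G.Additive] [PreservesFiniteLimits G] [PreservesFiniteColimits G]

theorem bc_congr {Φ' : A ⥤ C} [Φ'.Additive] {Ψ' : B ⥤ D} [Ψ'.Additive] (β : Φ ⋙ G ⟶ E ⋙ Ψ)
    (β' : Φ' ⋙ G ⟶ E ⋙ Ψ') (a : Φ ≅ Φ') (b : Ψ ≅ Ψ')
    (h : ∀ X, G.map (a.hom.app X) ≫ β'.app X = β.app X ≫ b.hom.app (E.obj X)) (q : ℕ) (X : A) :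
    G.map ((RDer.rightDerivedIso a q).hom.app X) ≫ bc β' q X =
      bc β q X ≫ (RDer.rightDerivedIso b q).hom.app (E.obj X) := by
  let I := injectiveResolution X
  let J := injectiveResolution (E.obj X)
  obtain ⟨d, hd⟩ := exists_lift (E := E) I J
  rw [bc_eq β q I J d hd, bc_eq β' q I J d hd,
    show (RDer.rightDerivedIso a q).hom.app X = _ from InjectiveResolution.rightDerived_app_eq a.hom I q,
    show (RDer.rightDerivedIso b q).hom.app (E.obj X) = _ from InjectiveResolution.rightDerived_app_eq b.hom J q]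
  dsimp only [form]
  simp only [G.map_comp, Category.assoc, Iso.inv_hom_id_assoc]
  rw [show G.map (I.isoRightDerivedObj Φ' q).inv = (G.mapIso (I.isoRightDerivedObj Φ' q)).inv from rfl,
    show G.map (I.isoRightDerivedObj Φ' q).hom = (G.mapIso (I.isoRightDerivedObj Φ' q)).hom from rfl,
    Iso.inv_hom_id_assoc]
  refine congrArg (G.map (I.isoRightDerivedObj Φ q).hom ≫ ·) ?_
  have e : G.map (homologyMap ((NatTrans.mapHomologicalComplex a.hom _).app I.cocomplex) q) ≫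
      (hIso G _ q).inv = (hIso G _ q).inv ≫ homologyMap ((G.mapHomologicalComplex _).map
        ((NatTrans.mapHomologicalComplex a.hom _).app I.cocomplex)) q := by
    rw [Iso.comp_inv_eq, Category.assoc, hIso_natural, Iso.inv_hom_id_assoc]
  refine (Category.assoc _ _ _).symm.trans ((congrArg (· ≫ _) e).trans ((Category.assoc _ _ _).trans ?_))
  refine congrArg (_ ≫ ·) ?_
  simp only [← Category.assoc]
  refine congrArg (· ≫ _) ?_
  refine (homologyMap_comp _ _ _).symm.trans (Eq.trans ?_ (homologyMap_comp _ _ _))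
  refine congrArg (homologyMap · q) ?_
  ext n
  show G.map (a.hom.app _) ≫ β'.app _ ≫ Ψ'.map (d.f n) = (β.app _ ≫ Ψ.map (d.f n)) ≫ b.hom.app _
  rw [← Category.assoc, h, Category.assoc, Category.assoc, b.hom.naturality]

section Composite

variable {A₁ : Type u₅} [Category.{v₅} A₁] [Abelian A₁] [HasInjectiveResolutions A₁]
  {B₁ : Type u₆} [Category.{v₆} B₁] [Abelian B₁] [HasInjectiveResolutions B₁]
  {Φ₁ : A₁ ⥤ A} [Φ₁.Additive] [Φ₁.PreservesInjectiveObjects]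
  {Ψ₁ : B₁ ⥤ B} [Ψ₁.Additive] [Ψ₁.PreservesInjectiveObjects]
  {E₁ : A₁ ⥤ B₁} [E₁.Additive] [PreservesFiniteLimits E₁] [PreservesFiniteColimits E₁]

/-- pasted natural transformation -/
def comp2 (β₁ : Φ₁ ⋙ E ⟶ E₁ ⋙ Ψ₁) (β₂ : Φ ⋙ G ⟶ E ⋙ Ψ) : (Φ₁ ⋙ Φ) ⋙ G ⟶ E₁ ⋙ (Ψ₁ ⋙ Ψ) where
  app X := β₂.app (Φ₁.obj X) ≫ Ψ.map (β₁.app X)
  naturality X Y f := by
    dsimp
    refine ((Category.assoc _ _ _).symm.trans ((congrArg (· ≫ _) (β₂.naturality (Φ₁.map f))).trans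
      (Category.assoc _ _ _))).trans ?_
    exact (congrArg (_ ≫ ·) ((Ψ.map_comp _ _).symm.trans ((congrArg Ψ.map (β₁.naturality f)).trans
      (Ψ.map_comp _ _)))).trans (Category.assoc _ _ _).symm

theorem bc_comp (β₁ : Φ₁ ⋙ E ⟶ E₁ ⋙ Ψ₁) (β₂ : Φ ⋙ G ⟶ E ⋙ Ψ) (q : ℕ) (X : A₁) :
    G.map (RDer.edgeIn Φ₁ Φ q X) ≫ bc (comp2 β₁ β₂) q X =
      bc β₂ q (Φ₁.obj X) ≫ (Ψ.rightDerived q).map (β₁.app X) ≫ RDer.edgeIn Ψ₁ Ψ q (E₁.obj X) := by
  let I := injectiveResolution X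
  let J := injectiveResolution (E₁.obj X)
  obtain ⟨d, hd⟩ := exists_lift (E := E₁) I J
  let K := injectiveResolution (Φ₁.obj X)
  let M := injectiveResolution (E.obj (Φ₁.obj X))
  obtain ⟨dK, hdK⟩ := exists_lift (E := E) K M
  let L := injectiveResolution (Ψ₁.obj (E₁.obj X))
  obtain ⟨φ, hφ⟩ := SESResLib.exists_desc (β₁.app X) M L
  let k := RDer.descToInjectives (𝟙 (Φ₁.obj X)) K.cocomplex K.ι
    ((Φ₁.mapHomologicalComplex _).obj I.cocomplex) (RDer.mapAug Φ₁ I.ι)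
  let l := RDer.descToInjectives (𝟙 (Ψ₁.obj (E₁.obj X))) L.cocomplex L.ι
    ((Ψ₁.mapHomologicalComplex _).obj J.cocomplex) (RDer.mapAug Ψ₁ J.ι)
  have hk : K.ι.f 0 ≫ k.f 0 = Φ₁.map (I.ι.f 0) := by
    refine (RDer.ι_descToInjectives_f_zero _ _ _ _ _).trans ((Category.id_comp _).trans ?_)
    simp [RDer.mapAug]
  have hl : L.ι.f 0 ≫ l.f 0 = Ψ₁.map (J.ι.f 0) := by
    refine (RDer.ι_descToInjectives_f_zero _ _ _ _ _).trans ((Category.id_comp _).trans ?_)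
    simp [RDer.mapAug]
  let m₁ : (E.mapHomologicalComplex _).obj K.cocomplex ⟶ (Ψ₁.mapHomologicalComplex _).obj J.cocomplex :=
    (E.mapHomologicalComplex _).map k ≫ natMap β₁ I.cocomplex ≫ (Ψ₁.mapHomologicalComplex _).map d
  have key := homologyMap_eq (mapι E K) (L := (Ψ₁.mapHomologicalComplex _).obj J.cocomplex) Ψ
    m₁ (dK ≫ φ ≫ l) (by
      rw [mapι_f_zero]
      change E.map (K.ι.f 0) ≫ E.map (k.f 0) ≫ β₁.app _ ≫ Ψ₁.map (d.f 0) =
        E.map (K.ι.f 0) ≫ dK.f 0 ≫ φ.f 0 ≫ l.f 0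
      refine Eq.trans (b := β₁.app X ≫ Ψ₁.map (J.ι.f 0)) ?_ ?_
      · rw [← E.map_comp_assoc, hk, ← show E₁.map (I.ι.f 0) ≫ d.f 0 = J.ι.f 0 from hd, Ψ₁.map_comp]
        exact β₁.naturality_assoc (I.ι.f 0) _
      · refine Eq.symm ?_
        refine (Category.assoc _ _ _).symm.trans ((congrArg (· ≫ _) hdK).trans ?_)
        refine (Category.assoc _ _ _).symm.trans ((congrArg (· ≫ _) hφ).trans ?_)
        exact (Category.assoc _ _ _).trans (congrArg (_ ≫ ·) hl)) q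
  have e₁ : (M.isoRightDerivedObj Ψ q).inv ≫ (Ψ.rightDerived q).map (β₁.app X) =
      homologyMap ((Ψ.mapHomologicalComplex _).map φ) q ≫ (L.isoRightDerivedObj Ψ q).inv :=
    InjectiveResolution.isoRightDerivedObj_inv_naturality (β₁.app X) M L φ hφ Ψ q
  rw [bc_eq _ q I J d hd, bc_eq β₂ q K M dK hdK]
  dsimp only [form, RDer.edgeIn]
  simp only [G.map_comp, Category.assoc]
  rw [reassoc_of% e₁, Iso.inv_hom_id_assoc,
    show G.map (I.isoRightDerivedObj (Φ₁ ⋙ Φ) q).inv = (G.mapIso (I.isoRightDerivedObj (Φ₁ ⋙ Φ) q)).inv from rfl,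
    show G.map (I.isoRightDerivedObj (Φ₁ ⋙ Φ) q).hom = (G.mapIso (I.isoRightDerivedObj (Φ₁ ⋙ Φ) q)).hom from rfl,
    Iso.inv_hom_id_assoc]
  refine congrArg (G.map (K.isoRightDerivedObj Φ q).hom ≫ ·) ?_
  have e : G.map (homologyMap ((Φ.mapHomologicalComplex _).map k) q) ≫ (hIso G _ q).inv =
      (hIso G _ q).inv ≫ homologyMap ((G.mapHomologicalComplex _).map ((Φ.mapHomologicalComplex _).map k)) q := by
    rw [Iso.comp_inv_eq, Category.assoc, hIso_natural, Iso.inv_hom_id_assoc]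
  refine (Category.assoc _ _ _).symm.trans ((congrArg (· ≫ _) e).trans ((Category.assoc _ _ _).trans ?_))
  refine congrArg (_ ≫ ·) ?_
  simp only [← Category.assoc]
  refine congrArg (· ≫ _) ?_
  refine (homologyMap_comp _ _ _).symm.trans ?_
  refine Eq.trans (b := homologyMap (natMap β₂ K.cocomplex ≫ (Ψ.mapHomologicalComplex _).map m₁) q) ?_ ?_
  · refine congrArg (homologyMap · q) ?_
    ext n
    show G.map (Φ.map (k.f n)) ≫ (β₂.app _ ≫ Ψ.map (β₁.app _)) ≫ Ψ.map (Ψ₁.map (d.f n)) =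
      β₂.app _ ≫ Ψ.map (E.map (k.f n) ≫ β₁.app _ ≫ Ψ₁.map (d.f n))
    simp only [Ψ.map_comp, Category.assoc]
    exact β₂.naturality_assoc (k.f n) _
  · rw [homologyMap_comp, key, Functor.map_comp, Functor.map_comp, homologyMap_comp, homologyMap_comp,
      ← Category.assoc, ← Category.assoc, ← homologyMap_comp]
    rfl

end Composite

end Groth.Agent.EtBCA.BCQ
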