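import Groth.Agent.EtBCA.BCQ.Comp

/-!
# Base change maps of a composite and the second edge map
-/

set_option autoImplicit false
set_option backward.isDefEq.respectTransparency false

universe v₁ v₂ v₃ v₄ v₅ v₆ u₁ u₂ u₃ u₄ u₅ u₆

open CategoryTheory CategoryTheory.Limits HomologicalComplex

noncomputable section

namespace Groth.Agent.EtBCA.BCQ

variable {A : Type u₁} [Category.{v₁} A] [Abelian A] [HasInjectiveResolutions A]
  {B : Type u₂} [Category.{v₂} B] [Abelian B] [HasInjectiveResolutions B]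
  {C : Type u₃} [Category.{v₃} C] [Abelian C]
  {D : Type u₄} [Category.{v₄} D] [Abelian D]
  {Φ : A ⥤ C} [Φ.Additive] [PreservesFiniteLimits Φ] {Ψ : B ⥤ D} [Ψ.Additive] [PreservesFiniteLimits Ψ]
  {E : A ⥤ B} [E.Additive] [PreservesFiniteLimits E] [PreservesFiniteColimits E]
  {G : C ⥤ D} [G.Additive] [PreservesFiniteLimits G] [PreservesFiniteColimits G]

omit [HasInjectiveResolutions A] [HasInjectiveResolutions B] in
/-- homology comparisons commute with a natural map of exact functors -/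
theorem natMap_homologyComparison (β : Φ ⋙ G ⟶ E ⋙ Ψ) (K : CochainComplex A ℕ) (q : ℕ) :
    homologyMap (natMap β K) q ≫ RDer.homologyComparison Ψ ((E.mapHomologicalComplex _).obj K) q ≫
        Ψ.map (hIso E K q).hom =
      (hIso G ((Φ.mapHomologicalComplex _).obj K) q).hom ≫ G.map (RDer.homologyComparison Φ K q) ≫
        β.app (K.homology q) := by
  rw [← cancel_epi (((G.mapHomologicalComplex _).obj
    ((Φ.mapHomologicalComplex _).obj K)).homologyπ q), homologyπ_naturality_assoc,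
    RDer.homologyπ_homologyComparison_assoc, zIso_π_assoc, ← Ψ.map_comp, zIso_π, Ψ.map_comp,
    ← G.map_comp_assoc, RDer.homologyπ_homologyComparison, G.map_comp, Category.assoc]
  refine Eq.trans ?_ (congrArg (_ ≫ ·) (congrArg (_ ≫ ·) (β.naturality (K.homologyπ q)).symm))
  simp only [← Category.assoc]
  refine congrArg (· ≫ _) ?_
  have : Mono (Ψ.map (E.map (K.iCycles q))) := inferInstance
  rw [← cancel_mono (Ψ.map (E.map (K.iCycles q)))]
  simp only [Category.assoc]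
  rw [← Ψ.map_comp, zIso_i, RDer.cyclesComparison_i, cyclesMap_i]
  refine Eq.trans ?_ (congrArg (_ ≫ ·) (congrArg (_ ≫ ·) (β.naturality (K.iCycles q))))
  rw [Functor.comp_map, ← G.map_comp_assoc, RDer.cyclesComparison_i, zIso_i_assoc]
  rfl

variable {A₁ : Type u₅} [Category.{v₅} A₁] [Abelian A₁] [HasInjectiveResolutions A₁]
  {B₁ : Type u₆} [Category.{v₆} B₁] [Abelian B₁] [HasInjectiveResolutions B₁]
  {Φ₁ : A₁ ⥤ A} [Φ₁.Additive] {Ψ₁ : B₁ ⥤ B} [Ψ₁.Additive]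
  {E₁ : A₁ ⥤ B₁} [E₁.Additive] [PreservesFiniteLimits E₁] [PreservesFiniteColimits E₁]

theorem bc_comp_out (β₁ : Φ₁ ⋙ E ⟶ E₁ ⋙ Ψ₁) (β₂ : Φ ⋙ G ⟶ E ⋙ Ψ) (q : ℕ) (X : A₁) :
    bc (comp2 β₁ β₂) q X ≫ RDer.edgeOut Ψ₁ Ψ q (E₁.obj X) =
      G.map (RDer.edgeOut Φ₁ Φ q X) ≫ β₂.app ((Φ₁.rightDerived q).obj X) ≫ Ψ.map (bc β₁ q X) := by
  let I := injectiveResolution X
  let J := injectiveResolution (E₁.obj X)
  obtain ⟨d, hd⟩ := exists_lift (E := E₁) I J
  rw [bc_eq _ q I J d hd, bc_eq β₁ q I J d hd]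
  dsimp only [form, RDer.edgeOut]
  simp only [G.map_comp, Category.assoc, Iso.inv_hom_id_assoc]
  refine congrArg (G.map (I.isoRightDerivedObj (Φ₁ ⋙ Φ) q).hom ≫ ·) ?_
  rw [Iso.inv_comp_eq]
  have hn : G.map (Φ.map (I.isoRightDerivedObj Φ₁ q).inv) ≫ β₂.app ((Φ₁.rightDerived q).obj X) =
      β₂.app _ ≫ Ψ.map (E.map (I.isoRightDerivedObj Φ₁ q).inv) := β₂.naturality (I.isoRightDerivedObj Φ₁ q).inv
  simp only [Ψ.map_comp]
  rw [reassoc_of% hn,
    show Ψ.map (E.map (I.isoRightDerivedObj Φ₁ q).inv) = ((E ⋙ Ψ).mapIso (I.isoRightDerivedObj Φ₁ q)).inv from rfl,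
    show Ψ.map (E.map (I.isoRightDerivedObj Φ₁ q).hom) = ((E ⋙ Ψ).mapIso (I.isoRightDerivedObj Φ₁ q)).hom from rfl,
    Iso.inv_hom_id_assoc]
  let K := (Φ₁.mapHomologicalComplex _).obj I.cocomplex
  let m₁ : (E.mapHomologicalComplex _).obj K ⟶ (Ψ₁.mapHomologicalComplex _).obj J.cocomplex :=
    natMap β₁ I.cocomplex ≫ (Ψ₁.mapHomologicalComplex _).map d
  have e₀ : natMap (comp2 β₁ β₂) I.cocomplex ≫ ((Ψ₁ ⋙ Ψ).mapHomologicalComplex _).map d =
      natMap β₂ K ≫ (Ψ.mapHomologicalComplex _).map m₁ := by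
    ext n
    show (β₂.app _ ≫ Ψ.map (β₁.app _)) ≫ Ψ.map (Ψ₁.map (d.f n)) = β₂.app _ ≫ Ψ.map (β₁.app _ ≫ Ψ₁.map (d.f n))
    rw [Ψ.map_comp, Category.assoc]
  have e₁ := natMap_homologyComparison β₂ K q
  refine Eq.trans (b := homologyMap (natMap β₂ K) q ≫ RDer.homologyComparison Ψ ((E.mapHomologicalComplex _).obj K) q ≫
    Ψ.map (homologyMap m₁ q) ≫ Ψ.map (J.isoRightDerivedObj Ψ₁ q).inv) ?_ ?_
  · refine ((congrArg (fun t => homologyMap t q ≫ _) e₀).trans ?_)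
    refine (congrArg (· ≫ _) (homologyMap_comp _ _ _)).trans ((Category.assoc _ _ _).trans ?_)
    refine congrArg (homologyMap (natMap β₂ K) q ≫ ·) ?_
    exact (Category.assoc _ _ _).symm.trans ((congrArg (· ≫ _) (homologyComparison_natural m₁ q)).trans
      (Category.assoc _ _ _))
  · refine Eq.trans ?_ ((congrArg (· ≫ Ψ.map (hIso E K q).inv ≫ Ψ.map (homologyMap m₁ q) ≫
      Ψ.map (J.isoRightDerivedObj Ψ₁ q).inv) e₁).trans ?_)
    · simp only [Category.assoc]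
      rw [show Ψ.map (hIso E K q).hom = (Ψ.mapIso (hIso E K q)).hom from rfl,
        show Ψ.map (hIso E K q).inv = (Ψ.mapIso (hIso E K q)).inv from rfl, Iso.hom_inv_id_assoc]
    · simp only [Category.assoc]
      exact congrArg (_ ≫ ·) (congrArg (_ ≫ ·) (congrArg (_ ≫ ·) (Iso.inv_hom_id_assoc _ _).symm))

end Groth.Agent.EtBCA.BCQ
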