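import Groth.Agent.EtBCA.BCQ.Transpose
import Groth.Agent.EtBCA.Hpull
import Groth.Agent.SiteBase.Horseshoe
import Groth.Prelude.Def_EtBC2

/-!
# The base change morphism `EtBC.bcQ` is natural and commutes with connecting maps
-/

set_option autoImplicit false
set_option linter.style.haveILetI false

universe u

open CategoryTheory CategoryTheory.Limits AlgebraicGeometry

noncomputable section

namespace Groth.Agent.EtBCA.BCQ

set_option backward.isDefEq.respectTransparency.types false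

variable {X S X' S' : Scheme.{u}} (f : X ⟶ S) (g : S' ⟶ S) (f' : X' ⟶ S') (g' : X' ⟶ X)
  (w : g' ≫ f = f' ≫ g)

/-- the comparison of direct images around the square -/
def sqIso : EtCoh.push g' ⋙ EtCoh.push f ≅ EtCoh.push f' ⋙ EtCoh.push g :=
  EtCoh.pushComp f g' ≪≫ EtCoh.pushCongr w ≪≫ (EtCoh.pushComp g f').symm

theorem pullAdditive (h : X ⟶ S) : (EtCoh.pull h).Additive :=
  (EtCoh.pullPushAdj h).left_adjoint_additive

theorem pullColimits (h : X ⟶ S) : PreservesFiniteColimits (EtCoh.pull h) :=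
  have : PreservesColimitsOfSize.{0, 0} (EtCoh.pull h) := (EtCoh.pullPushAdj h).leftAdjoint_preservesColimits
  PreservesColimitsOfSize.preservesFiniteColimits _

attribute [local instance] pullAdditive pullColimits

variable [PreservesFiniteLimits (EtCoh.pull g)] [PreservesFiniteLimits (EtCoh.pull g')]

/-- base change on sheaves, as a natural transformation -/
def beta : EtCoh.push f ⋙ EtCoh.pull g ⟶ EtCoh.pull g' ⋙ EtCoh.push f' :=
  mate0 (EtCoh.pullPushAdj g') (EtCoh.pullPushAdj g) (sqIso f g f' g' w)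

theorem beta_app (F : EtCoh.Ab X) :
    (beta f g f' g' w).app F = EtCoh.baseChange0 f g f' g' w F := by
  dsimp only [beta, mate0, EtCoh.baseChange0, sqIso, Iso.trans_hom, Iso.symm_hom, NatTrans.comp_app]
  rfl

theorem bcQ_eq (q : ℕ) (F : EtCoh.Ab X) :
    EtBC.bcQ f g f' g' w q F = bc (beta f g f' g' w) q F :=
  edge_eq_bc (Φ := EtCoh.push f) (Ψ := EtCoh.push f') (EtCoh.pullPushAdj g') (EtCoh.pullPushAdj g)
    (sqIso f g f' g' w) q F

theorem bcQ_natural (q : ℕ) {F F' : EtCoh.Ab X} (φ : F ⟶ F') :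
    (EtCoh.pull g).map ((EtCoh.Rpush f q).map φ) ≫ EtBC.bcQ f g f' g' w q F' =
      EtBC.bcQ f g f' g' w q F ≫ (EtCoh.Rpush f' q).map ((EtCoh.pull g').map φ) := by
  rw [bcQ_eq, bcQ_eq]
  exact bc_natural (beta f g f' g' w) q φ

theorem exists_bcQ_delta {E : ShortComplex (EtCoh.Ab X)} (hE : E.ShortExact) :
    ∃ (T : RDer.SESRes E) (T' : RDer.SESRes (E.map (EtCoh.pull g'))),
      ∀ (n₀ n₁ : ℕ) (h : n₀ + 1 = n₁),
        (EtCoh.pull g).map (T.delta (EtCoh.push f) n₀ n₁ h) ≫ EtBC.bcQ f g f' g' w n₁ E.X₁ =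
          EtBC.bcQ f g f' g' w n₀ E.X₃ ≫ T'.delta (EtCoh.push f') n₀ n₁ h := by
  obtain ⟨T⟩ := SESResLib.nonempty_sesRes_of_hasInjectiveResolutions hE
  obtain ⟨T'⟩ := SESResLib.nonempty_sesRes_of_hasInjectiveResolutions (hE.map_of_exact (EtCoh.pull g'))
  refine ⟨T, T', fun n₀ n₁ h => ?_⟩
  rw [bcQ_eq, bcQ_eq]
  exact bc_delta (beta f g f' g' w) hE.exact T T' n₀ n₁ h

end Groth.Agent.EtBCA.BCQ
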