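import Groth.Agent.EtBCA.BCQ.Etale

/-!
# Pasting of base change maps
-/

set_option autoImplicit false
set_option linter.style.haveILetI false

universe u

open CategoryTheory CategoryTheory.Limits AlgebraicGeometry Opposite

noncomputable section

namespace Groth.Agent.EtBCA.BCQ

set_option backward.isDefEq.respectTransparency.types false

variable {S X T Y T' Y' : Scheme.{u}} (g : T ⟶ S) (f : X ⟶ S) (h : Y ⟶ X) (e : Y ⟶ T)
  (w : e ≫ g = h ≫ f) (π : T' ⟶ T) (π' : Y' ⟶ Y) (e' : Y' ⟶ T') (w' : e' ≫ π = π' ≫ e)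
  (w'' : e' ≫ π ≫ g = (π' ≫ h) ≫ f)

theorem compLeft {Z : Scheme.{u}} {A B C : Z.Etale} (a : A ⟶ B) (b : B ⟶ C) :
    (a ≫ b).left = a.left ≫ b.left := rfl

section Components

variable {A B C : Scheme.{u}} (a : A ⟶ B) (b : B ⟶ C)

/-- component of the composition of base changes -/
def cH (V : C.Etale) : (EtCoh.bc (a ≫ b)).obj V ⟶ (EtCoh.bc a).obj ((EtCoh.bc b).obj V) :=
  (MorphismProperty.Over.pullbackComp (P := EtCoh.etaleMP) (Q := ⊤) a b).hom.app V

/-- component of the inverse composition of base changes -/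
def cI (V : C.Etale) : (EtCoh.bc a).obj ((EtCoh.bc b).obj V) ⟶ (EtCoh.bc (a ≫ b)).obj V :=
  (MorphismProperty.Over.pullbackComp (P := EtCoh.etaleMP) (Q := ⊤) a b).inv.app V

/-- component of a transport of base change -/
def cC {a a' : A ⟶ B} (h : a = a') (V : B.Etale) : (EtCoh.bc a').obj V ⟶ (EtCoh.bc a).obj V :=
  (MorphismProperty.Over.pullbackCongr (P := EtCoh.etaleMP) (Q := ⊤) h).inv.app V

/-- first projection of a base change -/
def p₁ (V : B.Etale) : ((EtCoh.bc a).obj V).left ⟶ V.left := pullback.fst V.hom a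

/-- second projection of a base change -/
def p₂ (V : B.Etale) : ((EtCoh.bc a).obj V).left ⟶ A := pullback.snd V.hom a

theorem pb_ext {W : Scheme.{u}} {V : B.Etale} {x y : W ⟶ ((EtCoh.bc a).obj V).left}
    (h₁ : x ≫ p₁ a V = y ≫ p₁ a V) (h₂ : x ≫ p₂ a V = y ≫ p₂ a V) : x = y :=
  pullback.hom_ext h₁ h₂

@[reassoc]
theorem cH_fst (V : C.Etale) :
    (cH a b V).left ≫ p₁ a ((EtCoh.bc b).obj V) ≫ p₁ b V = p₁ (a ≫ b) V := by
  simp [cH, p₁, EtCoh.bc, MorphismProperty.Over.pullbackComp]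
  exact (Category.id_comp _).trans (pullbackLeftPullbackSndIso_inv_fst _ _ _)

@[reassoc]
theorem cH_snd (V : C.Etale) : (cH a b V).left ≫ p₂ a ((EtCoh.bc b).obj V) = p₂ (a ≫ b) V := by
  simp [cH, p₂, EtCoh.bc, MorphismProperty.Over.pullbackComp]
  exact (Category.id_comp _).trans (pullbackLeftPullbackSndIso_inv_snd_snd _ _ _)

@[reassoc]
theorem cI_fst (V : C.Etale) :
    (cI a b V).left ≫ p₁ (a ≫ b) V = p₁ a ((EtCoh.bc b).obj V) ≫ p₁ b V := by
  simp [cI, p₁, EtCoh.bc, MorphismProperty.Over.pullbackComp]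
  exact (congrArg (_ ≫ ·) (Category.id_comp _)).trans (pullbackLeftPullbackSndIso_hom_fst _ _ _)

@[reassoc]
theorem cI_snd (V : C.Etale) : (cI a b V).left ≫ p₂ (a ≫ b) V = p₂ a ((EtCoh.bc b).obj V) := by
  simp [cI, p₂, EtCoh.bc, MorphismProperty.Over.pullbackComp]
  exact (congrArg (_ ≫ ·) (Category.id_comp _)).trans (pullbackLeftPullbackSndIso_hom_snd _ _ _)

@[reassoc]
theorem cC_fst {a a' : A ⟶ B} (h : a = a') (V : B.Etale) : (cC h V).left ≫ p₁ a V = p₁ a' V := by
  subst h; simp [cC, p₁, EtCoh.bc, MorphismProperty.Over.pullbackCongr]; exact Category.id_comp _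

@[reassoc]
theorem cC_snd {a a' : A ⟶ B} (h : a = a') (V : B.Etale) : (cC h V).left ≫ p₂ a V = p₂ a' V := by
  subst h; simp [cC, p₂, EtCoh.bc, MorphismProperty.Over.pullbackCongr]; exact Category.id_comp _

@[reassoc]
theorem map_fst {V W : B.Etale} (m : V ⟶ W) :
    ((EtCoh.bc a).map m).left ≫ p₁ a W = p₁ a V ≫ m.left :=
  pullback.lift_fst _ _ _

@[reassoc]
theorem map_snd {V W : B.Etale} (m : V ⟶ W) : ((EtCoh.bc a).map m).left ≫ p₂ a W = p₂ a V :=
  pullback.lift_snd _ _ _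

@[reassoc]
theorem p_comm (V : C.Etale) :
    p₁ a ((EtCoh.bc b).obj V) ≫ p₂ b V = p₂ a ((EtCoh.bc b).obj V) ≫ a :=
  pullback.condition (f := ((EtCoh.bc b).obj V).hom) (g := a)

end Components

theorem sqIso_paste (K : EtCoh.Ab Y') :
    (EtCoh.push g).map ((sqIso π e π' e' w').hom.app K) ≫ (sqIso g f h e w).hom.app ((EtCoh.push π').obj K) ≫
        (EtCoh.push f).map ((EtCoh.pushComp h π').hom.app K) =
      (EtCoh.pushComp g π).hom.app ((EtCoh.push e').obj K) ≫
        (sqIso (π ≫ g) f (π' ≫ h) e' w'').hom.app K := by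
  apply ObjectProperty.hom_ext
  apply NatTrans.ext
  funext U
  dsimp only [sqIso, Iso.trans_hom, Iso.symm_hom, NatTrans.comp_app, InducedCategory.comp_hom,
    EtCoh.pushComp, EtCoh.pushCongr, Functor.sheafPushforwardContinuousComp',
    Functor.sheafPushforwardContinuousIso]
  change (K.obj.map _ ≫ K.obj.map _ ≫ K.obj.map _) ≫ (K.obj.map _ ≫ K.obj.map _ ≫ K.obj.map _) ≫ K.obj.map _ =
    K.obj.map _ ≫ K.obj.map _ ≫ K.obj.map _ ≫ K.obj.map _
  simp only [← Functor.map_comp]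
  apply congrArg K.obj.map
  apply Quiver.Hom.unop_inj
  apply MorphismProperty.Over.Hom.ext
  simp only [NatTrans.op_app, unop_comp, Iso.symm_inv, Functor.op_map, Quiver.Hom.unop_op, Functor.op_obj, unop_op]
  show ((cH π' h _ ≫ (EtCoh.bc π').map ((cI h f _ ≫ cC w _) ≫ cH e g _)) ≫
      (cI π' e _ ≫ cC w' _) ≫ cH e' π _).left =
    (((cI (π' ≫ h) f _ ≫ cC w'' _) ≫ cH e' (π ≫ g) _) ≫ (EtCoh.bc e').map (cH π g _)).left
  simp only [compLeft, Functor.map_comp, Category.assoc]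
  apply pb_ext e'
  · apply pb_ext π
    · apply pb_ext g <;> simp [cH_fst_assoc, cH_fst, cI_fst_assoc, cI_fst, cC_fst_assoc, cC_fst, map_fst_assoc, map_fst, cH_snd, cH_snd_assoc, cI_snd_assoc, cI_snd, cC_snd_assoc, cC_snd, map_snd, map_snd_assoc, p_comm, p_comm_assoc, w, w']
    · simp [cH_fst_assoc, cH_fst, cI_fst_assoc, cI_fst, cC_fst_assoc, cC_fst, map_fst_assoc, map_fst, cH_snd, cH_snd_assoc, cI_snd_assoc, cI_snd, cC_snd_assoc, cC_snd, map_snd, map_snd_assoc, p_comm, p_comm_assoc]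
  · simp [cH_fst_assoc, cH_fst, cI_fst_assoc, cI_fst, cC_fst_assoc, cC_fst, map_fst_assoc, map_fst, cH_snd, cH_snd_assoc, cI_snd_assoc, cI_snd, cC_snd_assoc, cC_snd, map_snd, map_snd_assoc, p_comm, p_comm_assoc]


/-- base change along a composite is the pasting of the two base changes -/
theorem baseChange0_paste (H : EtCoh.Ab T') :
    (EtCoh.pull f).map ((EtCoh.pushComp g π).hom.app H) ≫
        EtCoh.baseChange0 (π ≫ g) f (π' ≫ h) e' w'' H =
      EtCoh.baseChange0 g f h e w ((EtCoh.push π).obj H) ≫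
        (EtCoh.push h).map (EtCoh.baseChange0 π e π' e' w' H) ≫
          (EtCoh.pushComp h π').hom.app ((EtCoh.pull e').obj H) := by
  have hb : ∀ {A B C D : Scheme.{u}} (a : A ⟶ B) (b : C ⟶ B) (a' : D ⟶ C) (b' : D ⟶ A) (ww : b' ≫ a = a' ≫ b)
      (K : EtCoh.Ab A), (EtCoh.pullPushAdj b).homEquiv _ _ (EtCoh.baseChange0 a b a' b' ww K) =
        (EtCoh.push a).map ((EtCoh.pullPushAdj b').unit.app K) ≫ (sqIso a b a' b' ww).hom.app _ := by
    intro A B C D a b a' b' ww K
    rw [EtCoh.baseChange0, Equiv.apply_symm_apply]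
    rfl
  apply ((EtCoh.pullPushAdj f).homEquiv _ _).injective
  rw [Adjunction.homEquiv_naturality_left, Adjunction.homEquiv_naturality_right, hb]
  erw [hb g f h e w]
  have h1 : (EtCoh.push g).map ((EtCoh.pullPushAdj e).unit.app ((EtCoh.push π).obj H)) ≫
      (sqIso g f h e w).hom.app ((EtCoh.pull e).obj ((EtCoh.push π).obj H)) ≫
        (EtCoh.push f).map ((EtCoh.push h).map (EtCoh.baseChange0 π e π' e' w' H)) =
      (EtCoh.push g).map ((EtCoh.push π).map ((EtCoh.pullPushAdj e').unit.app H)) ≫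
        (EtCoh.push g).map ((sqIso π e π' e' w').hom.app _) ≫ (sqIso g f h e w).hom.app _ := by
    refine (congrArg (_ ≫ ·) ((sqIso g f h e w).hom.naturality (EtCoh.baseChange0 π e π' e' w' H)).symm).trans ?_
    refine ((Category.assoc _ _ _).symm.trans (congrArg (· ≫ _) ?_)).trans (Category.assoc _ _ _)
    refine ((EtCoh.push g).map_comp _ _).symm.trans (Eq.trans ?_ ((EtCoh.push g).map_comp _ _))
    exact congrArg _ (((EtCoh.pullPushAdj e).homEquiv_unit _ _ _).symm.trans (hb π e π' e' w' H))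
  have h2 := congrArg (· ≫ (EtCoh.push f).map ((EtCoh.pushComp h π').hom.app ((EtCoh.pull e').obj H))) h1
  simp only [Category.assoc] at h2
  rw [Category.assoc]
  refine Eq.trans ?_ h2.symm
  refine ((Category.assoc _ _ _).symm.trans
    (congrArg (· ≫ _) ((EtCoh.pushComp g π).hom.naturality _).symm)).trans ?_
  refine (Category.assoc _ _ _).trans ?_
  exact congrArg (_ ≫ ·) (sqIso_paste g f h e w π π' e' w' w'' _).symm

end Groth.Agent.EtBCA.BCQ
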