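import Groth.Agent.EtBCA.BCQ.HComp
import Groth.Agent.EtBCA.BCQ.Paste
import Groth.Agent.EtBCA.BCCoh

/-!
# Base change for a tower of squares
-/

set_option autoImplicit false
set_option linter.style.haveILetI false

universe u

open CategoryTheory CategoryTheory.Limits AlgebraicGeometry Opposite

noncomputable section

namespace Groth.Agent.EtBCA.BCQ

set_option backward.isDefEq.respectTransparency.types false

attribute [local instance] pullAdditive pullColimits

variable {X S Y T W Z : Scheme.{u}} (f : X ⟶ S) (g : T ⟶ S) (h : Y ⟶ X) (e : Y ⟶ T) (w : e ≫ g = h ≫ f)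
  (i : W ⟶ X) (j : Z ⟶ W) (k : Z ⟶ Y) (w' : k ≫ h = j ≫ i) (w'' : (k ≫ e) ≫ g = j ≫ i ≫ f)

theorem sqIso_hpaste (K : EtCoh.Ab Z) :
    (sqIso g f h e w).hom.app ((EtCoh.push k).obj K) ≫ (EtCoh.push f).map ((sqIso h i j k w').hom.app K) ≫
        (EtCoh.pushComp f i).hom.app ((EtCoh.push j).obj K) =
      (EtCoh.push g).map ((EtCoh.pushComp e k).hom.app K) ≫ (sqIso g (i ≫ f) j (k ≫ e) w'').hom.app K := by
  apply ObjectProperty.hom_ext
  apply NatTrans.ext
  funext U
  dsimp only [sqIso, Iso.trans_hom, Iso.symm_hom, NatTrans.comp_app, InducedCategory.comp_hom,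
    EtCoh.pushComp, EtCoh.pushCongr, Functor.sheafPushforwardContinuousComp',
    Functor.sheafPushforwardContinuousIso]
  change (K.obj.map _ ≫ K.obj.map _ ≫ K.obj.map _) ≫ (K.obj.map _ ≫ K.obj.map _ ≫ K.obj.map _) ≫ K.obj.map _ =
    K.obj.map _ ≫ K.obj.map _ ≫ K.obj.map _ ≫ K.obj.map _
  simp only [← Functor.map_comp]
  apply congrArg K.obj.map
  apply Quiver.Hom.unop_inj
  apply MorphismProperty.Over.Hom.ext
  simp only [NatTrans.op_app, unop_comp, Iso.symm_inv, Functor.op_map, Quiver.Hom.unop_op, Functor.op_obj, unop_op]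
  show (((EtCoh.bc j).map (cH i f _) ≫ (cI j i _ ≫ cC w' _) ≫ cH k h _) ≫
      (EtCoh.bc k).map ((cI h f _ ≫ cC w _) ≫ cH e g _)).left =
    (((cI j (i ≫ f) _ ≫ cC w'' _) ≫ cH (k ≫ e) g _) ≫ cH k e _).left
  simp only [compLeft, Functor.map_comp, Category.assoc]
  apply pb_ext k
  · apply pb_ext e
    · apply pb_ext g <;> simp [cH_fst_assoc, cH_fst, cI_fst_assoc, cI_fst, cC_fst_assoc, cC_fst,
        map_fst_assoc, map_fst, cH_snd, cH_snd_assoc, cI_snd_assoc, cI_snd, cC_snd_assoc, cC_snd, map_snd,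
        map_snd_assoc, p_comm, p_comm_assoc, w, w']
    · simp [cH_fst_assoc, cH_fst, cI_fst_assoc, cI_fst, cC_fst_assoc, cC_fst,
        map_fst_assoc, map_fst, cH_snd, cH_snd_assoc, cI_snd_assoc, cI_snd, cC_snd_assoc, cC_snd, map_snd,
        map_snd_assoc, p_comm, p_comm_assoc, w, w']
  · simp [cH_fst_assoc, cH_fst, cI_fst_assoc, cI_fst, cC_fst_assoc, cC_fst,
        map_fst_assoc, map_fst, cH_snd, cH_snd_assoc, cI_snd_assoc, cI_snd, cC_snd_assoc, cC_snd, map_snd,
        map_snd_assoc, p_comm, p_comm_assoc, w, w']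

theorem baseChange0_hpaste (F : EtCoh.Ab T) :
    (EtCore.pullComp i f).hom.app ((EtCoh.push g).obj F) ≫
        (EtCoh.pull i).map (EtCoh.baseChange0 g f h e w F) ≫
          EtCoh.baseChange0 h i j k w' ((EtCoh.pull e).obj F) =
      EtCoh.baseChange0 g (i ≫ f) j (k ≫ e) w'' F ≫ (EtCoh.push j).map ((EtCore.pullComp k e).hom.app F) := by
  have hb : ∀ {A B C D : Scheme.{u}} (a : A ⟶ B) (b : C ⟶ B) (a' : D ⟶ C) (b' : D ⟶ A) (ww : b' ≫ a = a' ≫ b)
      (K : EtCoh.Ab A), (EtCoh.pullPushAdj b).homEquiv _ _ (EtCoh.baseChange0 a b a' b' ww K) =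
        (EtCoh.push a).map ((EtCoh.pullPushAdj b').unit.app K) ≫ (sqIso a b a' b' ww).hom.app _ := by
    intro A B C D a b a' b' ww K
    rw [EtCoh.baseChange0, Equiv.apply_symm_apply]
    rfl
  apply ((EtCoh.pullPushAdj (i ≫ f)).homEquiv _ _).injective
  rw [homEquiv_pullComp, Adjunction.homEquiv_naturality_left, hb, Adjunction.homEquiv_naturality_right, hb,
    Adjunction.homEquiv_naturality_right, hb]
  let K := (EtCoh.pull k).obj ((EtCoh.pull e).obj F)
  have hη : (EtCoh.pullPushAdj (k ≫ e)).unit.app F ≫ (EtCoh.push (k ≫ e)).map ((EtCore.pullComp k e).hom.app F) =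
      (EtCoh.pullPushAdj e).unit.app F ≫ (EtCoh.push e).map ((EtCoh.pullPushAdj k).unit.app ((EtCoh.pull e).obj F)) ≫
        (EtCoh.pushComp e k).hom.app K := by
    have h1 := homEquiv_pullComp k e F K (𝟙 K)
    erw [Category.comp_id, Adjunction.homEquiv_id, Adjunction.homEquiv_unit, Adjunction.homEquiv_unit,
      Category.assoc] at h1
    exact h1
  have hn : (sqIso g f h e w).hom.app ((EtCoh.pull e).obj F) ≫
      (EtCoh.push f).map ((EtCoh.push h).map ((EtCoh.pullPushAdj k).unit.app ((EtCoh.pull e).obj F))) =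
      (EtCoh.push g).map ((EtCoh.push e).map ((EtCoh.pullPushAdj k).unit.app ((EtCoh.pull e).obj F))) ≫
        (sqIso g f h e w).hom.app ((EtCoh.push k).obj K) :=
    ((sqIso g f h e w).hom.naturality ((EtCoh.pullPushAdj k).unit.app ((EtCoh.pull e).obj F))).symm
  have hn' : (sqIso g (i ≫ f) j (k ≫ e) w'').hom.app ((EtCoh.pull (k ≫ e)).obj F) ≫
      (EtCoh.push (i ≫ f)).map ((EtCoh.push j).map ((EtCore.pullComp k e).hom.app F)) =
      (EtCoh.push g).map ((EtCoh.push (k ≫ e)).map ((EtCore.pullComp k e).hom.app F)) ≫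
        (sqIso g (i ≫ f) j (k ≫ e) w'').hom.app K :=
    ((sqIso g (i ≫ f) j (k ≫ e) w'').hom.naturality ((EtCore.pullComp k e).hom.app F)).symm
  simp only [Functor.map_comp, Category.assoc]
  refine Eq.trans ?_ (congrArg (_ ≫ ·) hn').symm
  refine Eq.trans ?_ ((congrArg (· ≫ _) ((congrArg (EtCoh.push g).map hη).symm.trans
    ((EtCoh.push g).map_comp _ _))).trans (Category.assoc _ _ _))
  simp only [Functor.map_comp, Category.assoc]
  refine congrArg (_ ≫ ·) ?_
  refine (Category.assoc _ _ _).symm.trans ((congrArg (· ≫ _) hn).trans ((Category.assoc _ _ _).trans ?_))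
  exact congrArg (_ ≫ ·) (sqIso_hpaste f g h e w i j k w' w'' K)

theorem bcQ_hpaste [PreservesFiniteLimits (EtCoh.pull f)] [PreservesFiniteLimits (EtCoh.pull i)]
    [PreservesFiniteLimits (EtCoh.pull (i ≫ f))] [PreservesFiniteLimits (EtCoh.pull e)]
    [PreservesFiniteLimits (EtCoh.pull k)] [PreservesFiniteLimits (EtCoh.pull (k ≫ e))]
    (q : ℕ) (F : EtCoh.Ab T) :
    (EtCore.pullComp i f).hom.app ((EtCoh.Rpush g q).obj F) ≫
        (EtCoh.pull i).map (EtBC.bcQ g f h e w q F) ≫ EtBC.bcQ h i j k w' q ((EtCoh.pull e).obj F) =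
      EtBC.bcQ g (i ≫ f) j (k ≫ e) w'' q F ≫ (EtCoh.Rpush j q).map ((EtCore.pullComp k e).hom.app F) := by
  rw [bcQ_eq, bcQ_eq, bcQ_eq]
  exact bc_hcomp (beta g f h e w) (beta h i j k w') (beta g (i ≫ f) j (k ≫ e) w'')
    (EtCore.pullComp i f) (EtCore.pullComp k e) (fun K => by
      rw [beta_app, beta_app, beta_app]
      exact baseChange0_hpaste f g h e w i j k w' w'' K) q F

theorem isIso_bcQ_vcomp (q : ℕ) (F : EtCoh.Ab T) [PreservesFiniteLimits (EtCoh.pull e)]
    [PreservesFiniteLimits (EtCoh.pull k)] [PreservesFiniteLimits (EtCoh.pull (k ≫ e))]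
    (h1 : IsIso (EtBC.bcQ g f h e w q F)) (h2 : IsIso (EtBC.bcQ h i j k w' q ((EtCoh.pull e).obj F))) :
    IsIso (EtBC.bcQ g (i ≫ f) j (k ≫ e) w'' q F) := by
  have := pullExact f
  have := pullExact i
  have := pullExact (i ≫ f)
  have hp := bcQ_hpaste f g h e w i j k w' w'' q F
  have a1 : IsIso ((EtCoh.pull i).map (EtBC.bcQ g f h e w q F) ≫
      EtBC.bcQ h i j k w' q ((EtCoh.pull e).obj F)) :=
    @IsIso.comp_isIso _ _ _ _ _ _ _ (Functor.map_isIso _ _) h2
  have a2 : IsIso (EtBC.bcQ g (i ≫ f) j (k ≫ e) w'' q F ≫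
      (EtCoh.Rpush j q).map ((EtCore.pullComp k e).hom.app F)) :=
    hp ▸ @IsIso.comp_isIso _ _ _ _ _ _ _ inferInstance a1
  exact @IsIso.of_isIso_comp_right _ _ _ _ _ _ _ (Functor.map_isIso _ _) a2

end Groth.Agent.EtBCA.BCQ
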