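import Groth.Agent.EtBCA.BCQ.EtaleBase
import Groth.Agent.EtBCA.BCQ.HPaste
import Groth.Agent.EtFound.Detect

/-!
# Base change isomorphisms are etale local
-/

set_option autoImplicit false
set_option linter.style.haveILetI false

universe u

open CategoryTheory CategoryTheory.Limits AlgebraicGeometry Opposite

noncomputable section

namespace Groth.Agent.EtBCA.BCQ

set_option backward.isDefEq.respectTransparency.types false

theorem exists_lift_of_covers {X : Scheme.{u}} {ι : Type u} (U : ι → X.Etale) (hU : EtCoh.Covers U)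
    {Ω : Type u} [Field Ω] [IsSepClosed Ω] (ξ : Spec (CommRingCat.of Ω) ⟶ X) :
    ∃ (i : ι) (ζ : Spec (CommRingCat.of Ω) ⟶ (U i).left), ζ ≫ (U i).hom = ξ := by
  obtain ⟨i, y, hy⟩ := hU (ξ.base default)
  have : AlgebraicGeometry.Etale (U i).hom := (U i).prop
  obtain ⟨ζ, hζ, -⟩ := Scheme.exists_fac_of_etale_of_isSepClosed (U i).hom ξ y hy
  exact ⟨i, ζ, hζ⟩

/-- isomorphisms of abelian sheaves are detected on an etale covering -/
theorem isIso_of_covers {X : Scheme.{u}} {ι : Type u} (U : ι → X.Etale) (hU : EtCoh.Covers U)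
    {F G : EtCoh.Ab X} (φ : F ⟶ G) (h : ∀ i, IsIso ((EtCoh.pull (U i).hom).map φ)) : IsIso φ := by
  refine EtFound.isIso_of_stalks φ fun Ω _ _ ξ => ?_
  obtain ⟨i, ζ, rfl⟩ := exists_lift_of_covers U hU ξ
  have := h i
  have h1 : IsIso ((Scheme.pointSmallEtale (ζ ≫ (U i).hom)).sheafFiber.map φ) := by
    rw [← NatIso.isIso_map_iff (EtFound.sheafFiberPullIso (A := AddCommGrpCat.{u + 1}) (U i).hom ζ) φ]
    exact inferInstanceAs (IsIso ((Scheme.pointSmallEtale ζ).sheafFiber.map ((EtCoh.pull (U i).hom).map φ)))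
  exact (isIso_iff_bijective ((forget _).map ((Scheme.pointSmallEtale (ζ ≫ (U i).hom)).sheafFiber.map φ))).1
    inferInstance

theorem isIso_bcQ_congr {W S T Z : Scheme.{u}} {f f' : W ⟶ S} (hf : f = f') {k k' : Z ⟶ T} (hk : k = k')
    (g : T ⟶ S) (j : Z ⟶ W) (w : k ≫ g = j ≫ f) (w' : k' ≫ g = j ≫ f')
    [PreservesFiniteLimits (EtCoh.pull k)] [PreservesFiniteLimits (EtCoh.pull k')] (q : ℕ) (F : EtCoh.Ab T)
    (h : IsIso (EtBC.bcQ g f j k w q F)) : IsIso (EtBC.bcQ g f' j k' w' q F) := by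
  subst hf hk
  exact h

variable {X S Y T U V Tv Yu : Scheme.{u}} {f : X ⟶ S} {g : T ⟶ S} {h : Y ⟶ X} {e : Y ⟶ T}

/-- one chart -/
theorem isIso_pull_bcQ (c : IsPullback e h g f) [PreservesFiniteLimits (EtCoh.pull e)]
    (u₀ : U ⟶ X) [AlgebraicGeometry.Etale u₀] (v : V ⟶ S) [AlgebraicGeometry.Etale v] (a : U ⟶ V)
    (ha : a ≫ v = u₀ ≫ f) (gi : Tv ⟶ V) (ti : Tv ⟶ T) (cT : IsPullback ti gi g v) (hi : Yu ⟶ U)
    (ei : Yu ⟶ Tv) (cY : IsPullback ei hi gi a) [PreservesFiniteLimits (EtCoh.pull ei)] (q : ℕ) (F : EtCoh.Ab T)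
    (hloc : IsIso (EtBC.bcQ gi a hi ei cY.w q ((EtCoh.pull ti).obj F))) :
    IsIso ((EtCoh.pull u₀).map (EtBC.bcQ g f h e c.w q F)) := by
  have := pullExact f
  have := pullExact u₀
  have := pullExact (u₀ ≫ f)
  have := pullExact ti
  have := pullExact (ei ≫ ti)
  have hc : (ei ≫ ti) ≫ g = (hi ≫ u₀) ≫ f := by
    rw [Category.assoc, cT.w, ← Category.assoc, cY.w, Category.assoc, ha, Category.assoc]
  let k := c.lift (ei ≫ ti) (hi ≫ u₀) hc
  have := pullExact k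
  have := pullExact (k ≫ e)
  have hke : k ≫ e = ei ≫ ti := c.lift_fst _ _ _
  have hkh : k ≫ h = hi ≫ u₀ := c.lift_snd _ _ _
  have outer : IsPullback (k ≫ e) hi g (u₀ ≫ f) := by
    rw [hke, ← ha]
    exact cY.paste_horiz cT
  have ck : IsPullback k hi h u₀ := IsPullback.of_right outer hkh c
  have h1 := isIso_bcQ_etale cT q F
  have small := isIso_bcQ_vcomp v g gi ti cT.w a hi ei cY.w (cY.paste_horiz cT).w q F h1 hloc
  have big : IsIso (EtBC.bcQ g (u₀ ≫ f) hi (k ≫ e) outer.w q F) :=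
    isIso_bcQ_congr ha hke.symm g hi (cY.paste_horiz cT).w outer.w q F small
  have h2 := isIso_bcQ_etale ck q ((EtCoh.pull e).obj F)
  have hp := bcQ_hpaste f g h e c.w u₀ hi k ck.w outer.w q F
  have a2 : IsIso ((EtCore.pullComp u₀ f).hom.app ((EtCoh.Rpush g q).obj F) ≫
      (EtCoh.pull u₀).map (EtBC.bcQ g f h e c.w q F) ≫ EtBC.bcQ h u₀ hi k ck.w q ((EtCoh.pull e).obj F)) :=
    hp.symm ▸ @IsIso.comp_isIso _ _ _ _ _ _ _ big (Functor.map_isIso _ _)
  have a3 := @IsIso.of_isIso_comp_left _ _ _ _ _ _ _ inferInstance a2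
  exact @IsIso.of_isIso_comp_right _ _ _ _ _ _ _ h2 a3

end Groth.Agent.EtBCA.BCQ
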