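import Groth.Agent.EtBCA.BCQ.Main

/-!
# Composing base change maps along the base
-/

set_option autoImplicit false
set_option backward.isDefEq.respectTransparency false

universe v₁ v₂ v₃ v₄ v₅ v₆ u₁ u₂ u₃ u₄ u₅ u₆

open CategoryTheory CategoryTheory.Limits HomologicalComplex

noncomputable section

namespace Groth.Agent.EtBCA.BCQ

variable {A : Type u₁} [Category.{v₁} A] [Abelian A] [HasInjectiveResolutions A]
  {B : Type u₂} [Category.{v₂} B] [Abelian B] [HasInjectiveResolutions B]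
  {B₂ : Type u₅} [Category.{v₅} B₂] [Abelian B₂] [HasInjectiveResolutions B₂]
  {C : Type u₃} [Category.{v₃} C] [Abelian C]
  {D : Type u₄} [Category.{v₄} D] [Abelian D]
  {D₂ : Type u₆} [Category.{v₆} D₂] [Abelian D₂]
  {Φ : A ⥤ C} [Φ.Additive] {Ψ : B ⥤ D} [Ψ.Additive] {Ω : B₂ ⥤ D₂} [Ω.Additive]
  {E : A ⥤ B} [E.Additive] [PreservesFiniteLimits E] [PreservesFiniteColimits E]
  {G : C ⥤ D} [G.Additive] [PreservesFiniteLimits G] [PreservesFiniteColimits G]
  {E₂ : B ⥤ B₂} [E₂.Additive] [PreservesFiniteLimits E₂] [PreservesFiniteColimits E₂]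
  {G₂ : D ⥤ D₂} [G₂.Additive] [PreservesFiniteLimits G₂] [PreservesFiniteColimits G₂]
  {E₃ : A ⥤ B₂} [E₃.Additive] [PreservesFiniteLimits E₃] [PreservesFiniteColimits E₃]
  {G₃ : C ⥤ D₂} [G₃.Additive] [PreservesFiniteLimits G₃] [PreservesFiniteColimits G₃]

theorem bc_hcomp (β₁ : Φ ⋙ G ⟶ E ⋙ Ψ) (β₂ : Ψ ⋙ G₂ ⟶ E₂ ⋙ Ω) (β₃ : Φ ⋙ G₃ ⟶ E₃ ⋙ Ω)
    (g : G₃ ≅ G ⋙ G₂) (e : E₃ ≅ E ⋙ E₂)
    (h : ∀ X, g.hom.app (Φ.obj X) ≫ G₂.map (β₁.app X) ≫ β₂.app (E.obj X) = β₃.app X ≫ Ω.map (e.hom.app X))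
    (q : ℕ) (X : A) :
    g.hom.app ((Φ.rightDerived q).obj X) ≫ G₂.map (bc β₁ q X) ≫ bc β₂ q (E.obj X) =
      bc β₃ q X ≫ (Ω.rightDerived q).map (e.hom.app X) := by
  let I := injectiveResolution X
  let J := injectiveResolution (E.obj X)
  let K := injectiveResolution (E₂.obj (E.obj X))
  let L := injectiveResolution (E₃.obj X)
  obtain ⟨d₁, hd₁⟩ := exists_lift (E := E) I J
  obtain ⟨d₂, hd₂⟩ := exists_lift (E := E₂) J K
  obtain ⟨d₃, hd₃⟩ := exists_lift (E := E₃) I L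
  obtain ⟨ψ, hψ⟩ := SESResLib.exists_desc (e.hom.app X) L K
  rw [bc_eq β₁ q I J d₁ hd₁, bc_eq β₂ q J K d₂ hd₂, bc_eq β₃ q I L d₃ hd₃]
  let P := (Φ.mapHomologicalComplex _).obj I.cocomplex
  let gP : (G₃.mapHomologicalComplex _).obj P ⟶ (G₂.mapHomologicalComplex _).obj ((G.mapHomologicalComplex _).obj P) :=
    { f := fun n => g.hom.app (P.X n), comm' := fun i j _ => (g.hom.naturality (P.d i j)).symm }
  let eI : (E₃.mapHomologicalComplex _).obj I.cocomplex ⟶ (E₂.mapHomologicalComplex _).obj ((E.mapHomologicalComplex _).obj I.cocomplex) :=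
    { f := fun n => e.hom.app (I.cocomplex.X n), comm' := fun i j _ => (e.hom.naturality (I.cocomplex.d i j)).symm }
  have := fun n => K.injective n
  have key := homologyMap_eq (mapι E₃ I) (L := K.cocomplex) Ω
    (d₃ ≫ ψ) (eI ≫ (E₂.mapHomologicalComplex _).map d₁ ≫ d₂) (by
      rw [mapι_f_zero]
      change E₃.map (I.ι.f 0) ≫ d₃.f 0 ≫ ψ.f 0 = E₃.map (I.ι.f 0) ≫ e.hom.app _ ≫ E₂.map (d₁.f 0) ≫ d₂.f 0
      refine Eq.trans (b := e.hom.app X ≫ K.ι.f 0) ?_ ?_
      · exact (Category.assoc _ _ _).symm.trans ((congrArg (· ≫ _) hd₃).trans hψ)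
      · refine Eq.symm ((Category.assoc _ _ _).symm.trans ((congrArg (· ≫ _) (e.hom.naturality _)).trans
          ((Category.assoc _ _ _).trans (congrArg (_ ≫ ·) ?_))))
        refine (Category.assoc _ _ _).symm.trans (Eq.trans (congrArg (· ≫ d₂.f 0) ?_) hd₂)
        exact (E₂.map_comp _ _).symm.trans (congrArg E₂.map hd₁)) q
  have e₄ : (L.isoRightDerivedObj Ω q).inv ≫ (Ω.rightDerived q).map (e.hom.app X) =
      homologyMap ((Ω.mapHomologicalComplex _).map ψ) q ≫ (K.isoRightDerivedObj Ω q).inv :=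
    InjectiveResolution.isoRightDerivedObj_inv_naturality (e.hom.app X) L K ψ hψ Ω q
  have hg : g.hom.app (P.homology q) ≫ G₂.map (hIso G P q).inv ≫ (hIso G₂ _ q).inv =
      (hIso G₃ P q).inv ≫ homologyMap gP q := by
    rw [Iso.eq_inv_comp, ← cancel_epi (((G₃.mapHomologicalComplex _).obj P).homologyπ q), zIso_π_assoc,
      homologyπ_naturality, ← cancel_mono (hIso G₂ ((G.mapHomologicalComplex _).obj P) q).hom]
    simp only [Category.assoc, Iso.inv_hom_id, Category.comp_id, zIso_π]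
    rw [← cancel_mono (G₂.map (hIso G P q).hom)]
    simp only [Category.assoc, ← G₂.map_comp, Iso.inv_hom_id, G₂.map_id, Category.comp_id, zIso_π]
    erw [Category.comp_id]
    rw [show G₃.map (P.homologyπ q) ≫ g.hom.app (P.homology q) =
      g.hom.app _ ≫ G₂.map (G.map (P.homologyπ q)) from g.hom.naturality _, G₂.map_comp]
    simp only [← Category.assoc]
    refine congrArg (· ≫ _) ?_
    rw [← cancel_mono (G₂.map (G.map (P.iCycles q)))]
    simp only [Category.assoc]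
    rw [← G₂.map_comp, zIso_i, zIso_i, cyclesMap_i]
    exact (congrArg (_ ≫ ·) (g.hom.naturality (P.iCycles q)).symm).trans (zIso_i_assoc G₃ P q _)
  dsimp only [form]
  simp only [G₂.map_comp, Category.assoc]
  rw [show G₂.map (J.isoRightDerivedObj Ψ q).inv = (G₂.mapIso (J.isoRightDerivedObj Ψ q)).inv from rfl,
    show G₂.map (J.isoRightDerivedObj Ψ q).hom = (G₂.mapIso (J.isoRightDerivedObj Ψ q)).hom from rfl,
    Iso.inv_hom_id_assoc, e₄]
  have hn : g.hom.app ((Φ.rightDerived q).obj X) ≫ G₂.map (G.map (I.isoRightDerivedObj Φ q).hom) =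
      G₃.map (I.isoRightDerivedObj Φ q).hom ≫ g.hom.app _ :=
    (g.hom.naturality (I.isoRightDerivedObj Φ q).hom).symm
  rw [reassoc_of% hn]
  refine congrArg (G₃.map (I.isoRightDerivedObj Φ q).hom ≫ ·) ?_
  let m₁ : (G.mapHomologicalComplex _).obj P ⟶ (Ψ.mapHomologicalComplex _).obj J.cocomplex :=
    natMap β₁ I.cocomplex ≫ (Ψ.mapHomologicalComplex _).map d₁
  let m₂ := natMap β₂ J.cocomplex ≫ (Ω.mapHomologicalComplex _).map d₂
  have e₅ : G₂.map (homologyMap m₁ q) ≫ (hIso G₂ _ q).inv =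
      (hIso G₂ _ q).inv ≫ homologyMap ((G₂.mapHomologicalComplex _).map m₁) q := by
    rw [Iso.comp_inv_eq, Category.assoc, hIso_natural, Iso.inv_hom_id_assoc]
  refine Eq.trans (b := g.hom.app (P.homology q) ≫ G₂.map (hIso G P q).inv ≫ ((hIso G₂ _ q).inv ≫
    homologyMap ((G₂.mapHomologicalComplex _).map m₁) q) ≫ homologyMap m₂ q ≫ (K.isoRightDerivedObj Ω q).inv) ?_ ?_
  · exact congrArg (_ ≫ ·) (congrArg (_ ≫ ·) ((Category.assoc _ _ _).symm.trans (congrArg (· ≫ _) e₅)))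
  · simp only [Category.assoc]
    rw [reassoc_of% hg]
    refine congrArg (_ ≫ ·) ?_
    simp only [← Category.assoc]
    refine congrArg (· ≫ _) ?_
    refine ((congrArg (· ≫ _) (homologyMap_comp _ _ _).symm).trans (homologyMap_comp _ _ _).symm).trans ?_
    refine Eq.trans (b := homologyMap (natMap β₃ I.cocomplex ≫ (Ω.mapHomologicalComplex _).map
      (eI ≫ (E₂.mapHomologicalComplex _).map d₁ ≫ d₂)) q) ?_ ?_
    · refine congrArg (homologyMap · q) ?_
      ext n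
      show (g.hom.app _ ≫ G₂.map (β₁.app _ ≫ Ψ.map (d₁.f n))) ≫ β₂.app _ ≫ Ω.map (d₂.f n) =
        β₃.app _ ≫ Ω.map (e.hom.app _ ≫ E₂.map (d₁.f n) ≫ d₂.f n)
      simp only [G₂.map_comp, Ω.map_comp, Category.assoc]
      rw [← reassoc_of% (h (I.cocomplex.X n))]
      exact congrArg (_ ≫ ·) (congrArg (_ ≫ ·) (β₂.naturality_assoc (d₁.f n) _))
    · rw [homologyMap_comp, ← key, Functor.map_comp, homologyMap_comp, ← Category.assoc, ← homologyMap_comp]

end Groth.Agent.EtBCA.BCQ
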