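import Mathlib.Algebra.Homology.HomologySequence
import Mathlib.Algebra.Homology.ShortComplex.PreservesHomology
import Mathlib.CategoryTheory.Abelian.Refinements

/-!
# Exact functors and cohomology of complexes
-/

set_option autoImplicit false
set_option backward.isDefEq.respectTransparency false

universe v u v' u'

open CategoryTheory CategoryTheory.Limits

noncomputable section

namespace Groth.Agent.EtBCA.BCQ

variable {C : Type u} [Category.{v} C] [Abelian C] {D : Type u'} [Category.{v'} D] [Abelian D]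
  (G : C ⥤ D) [G.Additive] [PreservesFiniteLimits G] [PreservesFiniteColimits G]
  {ι : Type*} {c : ComplexShape ι}

/-- `H^i(G K) ≅ G (H^i K)` -/
def hIso (K : HomologicalComplex C c) (i : ι) :
    ((G.mapHomologicalComplex c).obj K).homology i ≅ G.obj (K.homology i) :=
  (K.sc i).mapHomologyIso G

@[reassoc]
theorem hIso_natural {K L : HomologicalComplex C c} (f : K ⟶ L) (i : ι) :
    HomologicalComplex.homologyMap ((G.mapHomologicalComplex c).map f) i ≫ (hIso G L i).hom =
      (hIso G K i).hom ≫ G.map (HomologicalComplex.homologyMap f i) :=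
  ShortComplex.mapHomologyIso_hom_naturality ((HomologicalComplex.shortComplexFunctor C c i).map f) G

/-- the isomorphism on cycles -/
def zIso (K : HomologicalComplex C c) (i : ι) :
    ((G.mapHomologicalComplex c).obj K).cycles i ≅ G.obj (K.cycles i) :=
  (K.sc i).mapCyclesIso G

@[reassoc]
theorem zIso_i (K : HomologicalComplex C c) (i : ι) :
    (zIso G K i).hom ≫ G.map (K.iCycles i) = ((G.mapHomologicalComplex c).obj K).iCycles i :=
  ShortComplex.mapCyclesIso_hom_iCycles (K.sc i) G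

@[reassoc]
theorem zIso_π (K : HomologicalComplex C c) (i : ι) :
    ((G.mapHomologicalComplex c).obj K).homologyπ i ≫ (hIso G K i).hom =
      (zIso G K i).hom ≫ G.map (K.homologyπ i) := by
  let hl := (K.sc i).leftHomologyData
  show ((K.sc i).map G).homologyπ ≫ ((K.sc i).mapHomologyIso G).hom =
    ((K.sc i).mapCyclesIso G).hom ≫ G.map (K.sc i).homologyπ
  rw [hl.mapHomologyIso_eq G, hl.mapCyclesIso_eq G, Iso.trans_hom, Iso.trans_hom,
    ShortComplex.LeftHomologyData.homologyπ_comp_homologyIso_hom_assoc,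
    Functor.mapIso_hom, Functor.mapIso_hom, Category.assoc]
  exact congrArg (_ ≫ ·) ((G.map_comp _ _).symm.trans
    ((congrArg G.map hl.π_comp_homologyIso_inv).trans (G.map_comp _ _)))

@[reassoc]
theorem liftCycles_zIso (K : HomologicalComplex C c) {A : C} (i j : ι) (k : A ⟶ K.X i)
    (hj : c.next i = j) (hk : k ≫ K.d i j = 0) (hk' : G.map k ≫ G.map (K.d i j) = 0) :
    ((G.mapHomologicalComplex c).obj K).liftCycles (G.map k) j hj hk' ≫ (zIso G K i).hom =
      G.map (K.liftCycles k j hj hk) := by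
  rw [← cancel_mono (G.map (K.iCycles i))]
  refine (Category.assoc _ _ _).trans ((congrArg (_ ≫ ·) (zIso_i G K i)).trans ?_)
  rw [← G.map_comp, K.liftCycles_i]
  exact HomologicalComplex.liftCycles_i _ _ _ _ _

/-- Exact functors commute with the connecting maps in cohomology. -/
theorem map_δ {S : ShortComplex (HomologicalComplex C c)} (hS : S.ShortExact)
    (hS' : (S.map (G.mapHomologicalComplex c)).ShortExact) (i j : ι) (hij : c.Rel i j) :
    hS'.δ i j hij ≫ (hIso G S.X₁ j).hom = (hIso G S.X₃ i).hom ≫ G.map (hS.δ i j hij) := by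
  have := hS.mono_f
  have := hS.epi_g
  obtain ⟨A, p, hp, x₂, hx₂⟩ := surjective_up_to_refinements_of_epi (S.g.f i) (S.X₃.iCycles i)
  have hx₃ : (p ≫ S.X₃.iCycles i) ≫ S.X₃.d i j = 0 := by simp
  have he : (S.map (HomologicalComplex.eval C c j)).ShortExact := hS.map_of_exact _
  have h0 : (x₂ ≫ S.X₂.d i j) ≫ S.g.f j = 0 := by
    rw [Category.assoc, ← S.g.comm, ← reassoc_of% hx₂]
    simp
  have : Mono (S.map (HomologicalComplex.eval C c j)).f := he.mono_f
  let x₁ : A ⟶ S.X₁.X j := he.exact.lift (x₂ ≫ S.X₂.d i j) h0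
  have hx₁ : x₁ ≫ S.f.f j = x₂ ≫ S.X₂.d i j := he.exact.lift_f _ _
  have e := hS.δ_eq i j hij (p ≫ S.X₃.iCycles i) hx₃ x₂ hx₂.symm x₁ hx₁ (c.next j) rfl
  have e' := hS'.δ_eq i j hij (G.map (p ≫ S.X₃.iCycles i))
    (show G.map _ ≫ G.map _ = 0 by rw [← G.map_comp, hx₃, G.map_zero]) (G.map x₂)
    (show G.map _ ≫ G.map _ = _ by rw [← G.map_comp, hx₂])
    (G.map x₁) (show G.map _ ≫ G.map _ = G.map _ ≫ G.map _ by rw [← G.map_comp, hx₁, G.map_comp])
    (c.next j) rfl
  have hp3 : p = S.X₃.liftCycles (p ≫ S.X₃.iCycles i) j (c.next_eq' hij) hx₃ := by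
    rw [← cancel_mono (S.X₃.iCycles i), S.X₃.liftCycles_i]
  have hl3 := liftCycles_zIso G S.X₃ i j (p ≫ S.X₃.iCycles i) (c.next_eq' hij) hx₃
    (by rw [← G.map_comp, hx₃, G.map_zero])
  rw [← hp3] at hl3 e
  have : Epi (G.map p) := inferInstance
  rw [← cancel_epi (((G.mapHomologicalComplex c).obj S.X₃).homologyπ i),
    ← cancel_epi (zIso G S.X₃ i).inv, ← cancel_epi (G.map p)]
  have hl3' : G.map p ≫ (zIso G S.X₃ i).inv =
      ((G.mapHomologicalComplex c).obj S.X₃).liftCycles (G.map (p ≫ S.X₃.iCycles i)) j (c.next_eq' hij)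
        (show G.map _ ≫ G.map _ = 0 by rw [← G.map_comp, hx₃, G.map_zero]) := by
    rw [Iso.comp_inv_eq]; exact hl3.symm
  refine Eq.trans (b := G.map (p ≫ S.X₃.homologyπ i ≫ hS.δ i j hij)) ?_ ?_
  · rw [e, G.map_comp]
    refine (Category.assoc _ _ _).symm.trans ((congrArg (· ≫ _) hl3').trans ?_)
    refine ((congrArg (_ ≫ ·) (Category.assoc _ _ _).symm).trans (Category.assoc _ _ _).symm).trans ?_
    refine (congrArg (· ≫ (hIso G S.X₁ j).hom) e').trans ?_
    refine (Category.assoc _ _ _).trans ((congrArg (_ ≫ ·) (zIso_π G S.X₁ j)).trans ?_)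
    refine (Category.assoc _ _ _).symm.trans (congrArg (· ≫ _) ?_)
    exact liftCycles_zIso G S.X₁ j _ x₁ rfl _ _
  · rw [G.map_comp, G.map_comp]
    refine congrArg (G.map p ≫ ·) ?_
    rw [zIso_π_assoc, Iso.inv_hom_id_assoc]

end Groth.Agent.EtBCA.BCQ
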