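import Groth.Agent.EtBCA.BCQ.Comp
import Groth.Agent.EtBCA.BCQ.Paste

/-!
# Base change and the edge map `R^q g_* (π_* H) ⟶ R^q (π ≫ g)_* H`
-/

set_option autoImplicit false
set_option linter.style.haveILetI false

universe u

open CategoryTheory CategoryTheory.Limits AlgebraicGeometry

noncomputable section

namespace Groth.Agent.EtBCA.BCQ

set_option backward.isDefEq.respectTransparency false in
set_option backward.isDefEq.respectTransparency.types false in
theorem isIso_edgeIn {A : Type*} [Category* A] [Abelian A] [HasInjectiveResolutions A]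
    {B : Type*} [Category* B] [Abelian B] [HasInjectiveResolutions B] {C : Type*} [Category* C] [Abelian C]
    (Φ : A ⥤ B) [Φ.Additive] [Φ.PreservesInjectiveObjects] [PreservesFiniteLimits Φ] (Ψ : B ⥤ C) [Ψ.Additive]
    (X : A) (h : ∀ q : ℕ, 0 < q → IsZero ((Φ.rightDerived q).obj X)) (n : ℕ) :
    IsIso (RDer.edgeIn Φ Ψ n X) := by
  let I := injectiveResolution X
  have hq : QuasiIso (RDer.mapAug Φ I.ι) := by
    constructor
    intro m
    cases m with
    | succ m =>
      rw [quasiIsoAt_iff_exactAt _ _ (CochainComplex.exactAt_succ_single_obj _ _),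
        HomologicalComplex.exactAt_iff_isZero_homology]
      exact (h (m + 1) m.succ_pos).of_iso (I.isoRightDerivedObj Φ (m + 1)).symm
    | zero =>
      rw [CochainComplex.quasiIsoAt₀_iff, ShortComplex.quasiIso_iff_of_zeros]
      · let S := ShortComplex.mk _ _ (RDer.res_ι_d I.cocomplex I.ι)
        have hS : S.Exact := RDer.res_exact₀ I.cocomplex I.ι
        have : Mono S.f := RDer.res_mono I.cocomplex I.ι
        refine (ShortComplex.exact_and_mono_f_iff_of_iso ?_).2
          ⟨hS.map_of_mono_of_preservesKernel Φ inferInstance inferInstance,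
            inferInstanceAs (Mono (Φ.map S.f))⟩
        refine ShortComplex.isoMk (Iso.refl _) (Iso.refl _) (Iso.refl _) ?_ ?_
        · simp [S, RDer.mapAug]
          exact (Category.id_comp _).symm
        · simp [S]
      all_goals simp
  let J : InjectiveResolution (Φ.obj X) :=
    { cocomplex := (Φ.mapHomologicalComplex _).obj I.cocomplex
      injective := fun m => RDer.injective_mapHomologicalComplex_X Φ I.cocomplex m
      ι := RDer.mapAug Φ I.ι }
  let R := injectiveResolution (Φ.obj X)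
  let d : R.cocomplex ⟶ J.cocomplex :=
    RDer.descToInjectives (𝟙 (Φ.obj X)) R.cocomplex R.ι J.cocomplex J.ι
  have e := InjectiveResolution.isoRightDerivedObj_hom_naturality (𝟙 _) R J d
    (RDer.ι_descToInjectives_f_zero (𝟙 (Φ.obj X)) R.cocomplex R.ι J.cocomplex J.ι) Ψ n
  rw [CategoryTheory.Functor.map_id, Category.id_comp] at e
  have e' : RDer.edgeIn Φ Ψ n X =
      (J.isoRightDerivedObj Ψ n).hom ≫ (I.isoRightDerivedObj (Φ ⋙ Ψ) n).inv := by
    refine (Category.assoc _ _ _).symm.trans ?_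
    exact congrArg (· ≫ (I.isoRightDerivedObj (Φ ⋙ Ψ) n).inv) e.symm
  rw [e']
  infer_instance

set_option backward.isDefEq.respectTransparency.types false

attribute [local instance] pullAdditive pullColimits

variable {S X T Y T' Y' : Scheme.{u}} (g : T ⟶ S) (f : X ⟶ S) (h : Y ⟶ X) (e : Y ⟶ T)
  (w : e ≫ g = h ≫ f) (π : T' ⟶ T) (π' : Y' ⟶ Y) (e' : Y' ⟶ T') (w' : e' ≫ π = π' ≫ e)
  (w'' : e' ≫ π ≫ g = (π' ≫ h) ≫ f)
  [PreservesFiniteLimits (EtCoh.pull f)] [PreservesFiniteLimits (EtCoh.pull e)]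
  [PreservesFiniteLimits (EtCoh.pull e')] [PreservesFiniteLimits (EtCoh.pull π)]
  [PreservesFiniteLimits (EtCoh.pull π')]

theorem bcQ_paste (q : ℕ) (H : EtCoh.Ab T') :
    (EtCoh.pull f).map (EtBC.lerayEdgeIn π g q H) ≫ EtBC.bcQ (π ≫ g) f (π' ≫ h) e' w'' q H =
      EtBC.bcQ g f h e w q ((EtCoh.push π).obj H) ≫
        (EtCoh.Rpush h q).map (EtCoh.baseChange0 π e π' e' w' H) ≫
          EtBC.lerayEdgeIn π' h q ((EtCoh.pull e').obj H) := by
  rw [bcQ_eq, bcQ_eq]
  dsimp only [EtBC.lerayEdgeIn]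
  rw [Functor.map_comp, Category.assoc]
  have hc := bc_congr (Φ := EtCoh.push π ⋙ EtCoh.push g) (Ψ := EtCoh.push π' ⋙ EtCoh.push h)
    (comp2 (beta π e π' e' w') (beta g f h e w)) (beta (π ≫ g) f (π' ≫ h) e' w'')
    (EtCoh.pushComp g π) (EtCoh.pushComp h π') (fun K => by
      show (EtCoh.pull f).map ((EtCoh.pushComp g π).hom.app K) ≫ (beta (π ≫ g) f (π' ≫ h) e' w'').app K =
        ((beta g f h e w).app ((EtCoh.push π).obj K) ≫ (EtCoh.push h).map ((beta π e π' e' w').app K)) ≫
          (EtCoh.pushComp h π').hom.app ((EtCoh.pull e').obj K)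
      rw [beta_app, beta_app, beta_app, Category.assoc]
      exact baseChange0_paste g f h e w π π' e' w' w'' K) q H
  refine (congrArg (_ ≫ ·) hc).trans ?_
  refine (Category.assoc _ _ _).symm.trans
    ((congrArg (· ≫ _) (bc_comp (beta π e π' e' w') (beta g f h e w) q H)).trans ?_)
  rw [beta_app, Category.assoc, Category.assoc]

end Groth.Agent.EtBCA.BCQ
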