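import Groth.Agent.EtBCA.BCQ.Killed
import Groth.Agent.EtBCA.BCQ.Leray
import Groth.Agent.EtFound.PushExact
import Groth.Agent.EtFound.IntegralBaseChange

/-!
# Base change in one more degree and integral morphisms
-/

set_option autoImplicit false
set_option linter.style.haveILetI false

universe u

open CategoryTheory CategoryTheory.Limits AlgebraicGeometry Opposite

namespace Groth.Agent.EtBCA.BCQ

set_option backward.isDefEq.respectTransparency.types false

theorem isRightAcyclic_of_preservesEpi {A : Type*} [Category* A] [Abelian A] [EnoughInjectives A]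
    {B : Type*} [Category* B] [Abelian B] (T : A ⥤ B) [T.Additive] [PreservesFiniteLimits T]
    [T.PreservesEpimorphisms] (X : A) : TriCat.IsRightAcyclic T X := by
  intro i hi
  obtain ⟨j, rfl⟩ : ∃ j, i = j + 1 := ⟨i - 1, by omega⟩
  induction j generalizing X with
  | zero =>
    let Q := Classical.arbitrary (InjectivePresentation X)
    have hE := Q.shortExact_shortComplex
    have : Injective Q.shortComplex.X₂ := Q.injective
    have := hE.epi_g
    let := HasDerivedCategory.standard A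
    let := HasDerivedCategory.standard B
    obtain ⟨δ, w₁, w₂, w₃, -, e₂, e₃⟩ := TriCat.exists_rightDerived_ses T hE 0
    refine e₃.isZero_X₂ ?_ ((TriCat.isRightAcyclic_of_injective Q.shortComplex.X₂ 1 one_pos).eq_of_tgt _ _)
    have : Epi ((T.rightDerived 0).map Q.shortComplex.g) :=
      ((MorphismProperty.epimorphisms _).arrow_mk_iso_iff
        (Arrow.isoOfNatIso T.rightDerivedZeroIsoSelf (Arrow.mk Q.shortComplex.g))).2
          (inferInstanceAs (Epi (T.map Q.shortComplex.g)))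
    exact (cancel_epi ((T.rightDerived 0).map Q.shortComplex.g)).1 (w₂.trans comp_zero.symm)
  | succ j ih =>
    let Q := Classical.arbitrary (InjectivePresentation X)
    have hE := Q.shortExact_shortComplex
    have : Injective Q.shortComplex.X₂ := Q.injective
    let := HasDerivedCategory.standard A
    let := HasDerivedCategory.standard B
    obtain ⟨δ, w₁, w₂, w₃, -, -, e₃⟩ := TriCat.exists_rightDerived_ses T hE (j + 1)
    refine e₃.isZero_X₂ ?_ ((TriCat.isRightAcyclic_of_injective Q.shortComplex.X₂ _ (by omega)).eq_of_tgt _ _)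
    exact (ih Q.shortComplex.X₃ (by omega)).eq_of_src _ _

theorem isRightAcyclic_push_integral {X Y : Scheme.{u}} (f : X ⟶ Y) [IsIntegralHom f] (F : EtCoh.Ab X) :
    TriCat.IsRightAcyclic (EtCoh.push f) F :=
  have := EtFound.push_preservesEpimorphisms f
  isRightAcyclic_of_preservesEpi (EtCoh.push f) F

theorem isIso_lerayEdgeIn_integral {X Y Z : Scheme.{u}} (f : X ⟶ Y) [IsIntegralHom f] (g : Y ⟶ Z)
    [PreservesFiniteLimits (EtCoh.pull f)] (q : ℕ) (F : EtCoh.Ab X) :
    IsIso (EtBC.lerayEdgeIn f g q F) := by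
  have := isIso_edgeIn (EtCoh.push f) (EtCoh.push g) F (isRightAcyclic_push_integral f F) q
  dsimp only [EtBC.lerayEdgeIn]
  infer_instance

variable {S' X' T Y T' Y' : Scheme.{u}} {g : T ⟶ S'} {f' : X' ⟶ S'} {h : Y ⟶ X'} {e : Y ⟶ T}
  (w : e ≫ g = h ≫ f') {π : T' ⟶ T} [IsIntegralHom π] {π' : Y' ⟶ Y} {e' : Y' ⟶ T'}
  [PreservesFiniteLimits (EtCoh.pull e)] [PreservesFiniteLimits (EtCoh.pull e')]

theorem isIso_bcQ_push_integral (c' : IsPullback e' π' π e) (w'' : e' ≫ π ≫ g = (π' ≫ h) ≫ f') (q : ℕ)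
    (H : EtCoh.Ab T') (hiso : IsIso (EtBC.bcQ (π ≫ g) f' (π' ≫ h) e' w'' q H)) :
    IsIso (EtBC.bcQ g f' h e w q ((EtCoh.push π).obj H)) := by
  have := pullExact f'
  have := pullExact π
  have := pullExact π'
  have : IsIntegralHom π' := MorphismProperty.of_isPullback c' ‹IsIntegralHom π›
  have i1 := isIso_lerayEdgeIn_integral π g q H
  have i2 := isIso_lerayEdgeIn_integral π' h q ((EtCoh.pull e').obj H)
  have i3 : IsIso (EtCoh.baseChange0 π e π' e' c'.w H) :=
    EtFound.isIso_baseChange_of_integral c' H _ (EtFound.baseChange0_unit π e π' e' c'.w H)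
  have key := bcQ_paste g f' h e w π π' e' c'.w w'' q H
  have i4 : IsIso ((EtCoh.Rpush h q).map (EtCoh.baseChange0 π e π' e' c'.w H) ≫
      EtBC.lerayEdgeIn π' h q ((EtCoh.pull e').obj H)) :=
    @IsIso.comp_isIso _ _ _ _ _ _ _ (Functor.map_isIso _ _) i2
  have i5 : IsIso ((EtCoh.pull f').map (EtBC.lerayEdgeIn π g q H) ≫ EtBC.bcQ (π ≫ g) f' (π' ≫ h) e' w'' q H) :=
    @IsIso.comp_isIso _ _ _ _ _ _ _ (Functor.map_isIso _ _) hiso
  have i6 : IsIso (EtBC.bcQ g f' h e w q ((EtCoh.push π).obj H) ≫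
      ((EtCoh.Rpush h q).map (EtCoh.baseChange0 π e π' e' c'.w H) ≫
        EtBC.lerayEdgeIn π' h q ((EtCoh.pull e').obj H))) := key ▸ i5
  exact @IsIso.of_isIso_comp_right _ _ _ _ _ _ _ i4 i6

theorem isIso_of_integral_cover [QuasiCompact g] [QuasiSeparated g] [Surjective π] {n q : ℕ}
    (hlow : ∀ G : EtCoh.Ab T, EtCoh.KilledBy n G → IsIso (EtBC.bcQ g f' h e w q G))
    (c' : IsPullback e' π' π e) (w'' : e' ≫ π ≫ g = (π' ≫ h) ≫ f') (F : EtCoh.Ab T) (hF : EtCoh.KilledBy n F)
    (hiso : IsIso (EtBC.bcQ (π ≫ g) f' (π' ≫ h) e' w'' (q + 1) ((EtCoh.pull π).obj F))) :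
    IsIso (EtBC.bcQ g f' h e w (q + 1) F) := by
  have hG := isIso_bcQ_push_integral w c' w'' (q + 1) _ hiso
  have : (EtCoh.pull π).Faithful := EtFound.pullback_faithful (A := AddCommGrpCat.{u + 1}) π
  have : (EtCoh.pull π).Additive := pullAdditive π
  have : (EtCoh.push π).Additive := (EtCoh.pullPushAdj π).right_adjoint_additive
  have hK : EtCoh.KilledBy n ((EtCoh.push π).obj ((EtCoh.pull π).obj F)) :=
    killedBy_functor (EtCoh.pull π ⋙ EtCoh.push π) hF
  obtain ⟨φ, hφ, -⟩ := exists_mono_cokernel_killed w hlow ((EtCoh.pullPushAdj π).unit.app F) hK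
  have := mono_bcQ_succ_killed w hlow F hF
  have : Epi (EtBC.bcQ g f' h e w (q + 1) F) := by
    refine Preadditive.epi_of_isZero_cokernel _ (IsZero.of_mono φ ?_)
    exact @Limits.isZero_cokernel_of_epi _ _ _ _ _ _ (@IsIso.epi_of_iso _ _ _ _ _ hG) _
  exact isIso_of_mono_of_epi _

end Groth.Agent.EtBCA.BCQ
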