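import Groth.Agent.EtBCA.BCQ.LerayOut
import Groth.Agent.EtBCA.BCQ.Integral
import Groth.Agent.EtFound.PropPush

/-!
# Base change after an integral change of base
-/

set_option autoImplicit false
set_option linter.style.haveILetI false

universe u

open CategoryTheory CategoryTheory.Limits AlgebraicGeometry Opposite

namespace Groth.Agent.EtBCA.BCQ

set_option backward.isDefEq.respectTransparency.types false

theorem isIso_lerayEdgeOut_integral {X Y Z : Scheme.{u}} (f : X ⟶ Y) (g : Y ⟶ Z) [IsIntegralHom g]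
    (q : ℕ) (F : EtCoh.Ab X) : IsIso (EtBC.lerayEdgeOut f g q F) := by
  have := EtFound.push_preservesFiniteColimits g
  have := isIso_edgeOut (EtCoh.push f) (EtCoh.push g) q F
  dsimp only [EtBC.lerayEdgeOut]
  infer_instance

theorem isIso_of_push_integral {A B : Scheme.{u}} (π : A ⟶ B) [IsIntegralHom π] {F G : EtCoh.Ab A} (φ : F ⟶ G)
    (h : IsIso ((EtCoh.push π).map φ)) : IsIso φ := by
  have hε : ∀ H : EtCoh.Ab A, Epi ((EtCoh.pullPushAdj π).counit.app H) := fun H =>
    (Sheaf.isLocallySurjective_iff_epi' _ _).1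
      (EtFound.isLocallySurjective_counit_of_propA π (EtFound.propA_integral π) H)
  have hi : IsIso ((EtCoh.pull π).map ((EtCoh.push π).map φ)) := Functor.map_isIso _ _
  have he : Epi φ := by
    have : Epi ((EtCoh.pull π).map ((EtCoh.push π).map φ) ≫ (EtCoh.pullPushAdj π).counit.app G) :=
      @epi_comp _ _ _ _ _ _ (@IsIso.epi_of_iso _ _ _ _ _ hi) _ (hε G)
    have e := (EtCoh.pullPushAdj π).counit.naturality φ
    dsimp at e
    rw [e] at this
    exact epi_of_epi ((EtCoh.pullPushAdj π).counit.app F) φ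
  have hm : Mono φ := by
    have := (EtCoh.pullPushAdj π).right_adjoint_additive
    have hz : IsZero ((EtCoh.push π).obj (kernel φ)) := by
      refine IsZero.of_iso ?_ (PreservesKernel.iso (EtCoh.push π) φ)
      exact @Limits.isZero_kernel_of_mono _ _ _ _ _ _ (@IsIso.mono_of_iso _ _ _ _ _ h) _
    have := hε (kernel φ)
    exact Preadditive.mono_of_isZero_kernel _
      (IsZero.of_epi ((EtCoh.pullPushAdj π).counit.app (kernel φ)) ((EtCoh.pull π).map_isZero hz))
  exact isIso_of_mono_of_epi φ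

variable {S' X' S'' X'' T Y : Scheme.{u}} {π : S'' ⟶ S'} [IsIntegralHom π] {f' : X' ⟶ S'}
  {f'' : X'' ⟶ S''} {π' : X'' ⟶ X'} {g' : T ⟶ S''} {h' : Y ⟶ X''} {e : Y ⟶ T}
  [PreservesFiniteLimits (EtCoh.pull e)]

theorem isIso_bcQ_after_integral (hX'' : IsPullback π' f'' f' π) (w : e ≫ g' = h' ≫ f'')
    (w'' : e ≫ g' ≫ π = (h' ≫ π') ≫ f') (q : ℕ) (F : EtCoh.Ab T)
    (hiso : IsIso (EtBC.bcQ (g' ≫ π) f' (h' ≫ π') e w'' q F)) :
    IsIso (EtBC.bcQ g' f'' h' e w q F) := by
  have := pullExact f'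
  have := pullExact f''
  have hp : IsPullback f'' π' π f' := hX''.flip
  have : IsIntegralHom π' := MorphismProperty.of_isPullback hp ‹IsIntegralHom π›
  have i1 := isIso_lerayEdgeOut_integral g' π q F
  have i2 := isIso_lerayEdgeOut_integral h' π' q ((EtCoh.pull e).obj F)
  have i3 : IsIso (EtCoh.baseChange0 π f' π' f'' hp.w ((EtCoh.Rpush g' q).obj F)) :=
    EtFound.isIso_baseChange_of_integral hp _ _ (EtFound.baseChange0_unit π f' π' f'' hp.w _)
  have key := bcQ_paste_out π f' π' f'' hp.w g' h' e w w'' q F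
  have i4 : IsIso (EtBC.bcQ (g' ≫ π) f' (h' ≫ π') e w'' q F ≫ EtBC.lerayEdgeOut h' π' q ((EtCoh.pull e).obj F)) :=
    @IsIso.comp_isIso _ _ _ _ _ _ _ hiso i2
  have i5 : IsIso ((EtCoh.pull f').map (EtBC.lerayEdgeOut g' π q F)) := Functor.map_isIso _ _
  have i6 : IsIso ((EtCoh.pull f').map (EtBC.lerayEdgeOut g' π q F) ≫
        EtCoh.baseChange0 π f' π' f'' hp.w ((EtCoh.Rpush g' q).obj F) ≫
          (EtCoh.push π').map (EtBC.bcQ g' f'' h' e w q F)) := key ▸ i4
  have i7 := @IsIso.of_isIso_comp_left _ _ _ _ _ _ _ i5 i6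
  have i8 : IsIso ((EtCoh.push π').map (EtBC.bcQ g' f'' h' e w q F)) :=
    @IsIso.of_isIso_comp_left _ _ _ _ _ _ _ i3 i7
  exact isIso_of_push_integral π' _ i8

end Groth.Agent.EtBCA.BCQ
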