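import Groth.Agent.EtBCA.BCQ.IntegralBase

/-!
# Base change for an integral morphism
-/

set_option autoImplicit false
set_option linter.style.haveILetI false

universe u

open CategoryTheory CategoryTheory.Limits AlgebraicGeometry HomologicalComplex

noncomputable section

namespace Groth.Agent.EtBCA.BCQ

set_option backward.isDefEq.respectTransparency.types false

attribute [local instance] pullAdditive pullColimits

theorem isZero_Rpush_integral {X Y : Scheme.{u}} (p : X ⟶ Y) [IsIntegralHom p] (q : ℕ) (F : EtCoh.Ab X) :
    IsZero ((EtCoh.Rpush p (q + 1)).obj F) := by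
  have := EtFound.push_preservesFiniteColimits p
  have := EtFound.push_preservesFiniteLimits p
  let I := injectiveResolution F
  refine IsZero.of_iso ?_ (I.isoRightDerivedObj (EtCoh.push p) (q + 1))
  refine IsZero.of_iso ?_ (hIso (EtCoh.push p) I.cocomplex (q + 1))
  exact Functor.map_isZero _ ((exactAt_iff_isZero_homology _ _).1 (I.cocomplex_exactAt_succ q))

/-- base change along anything is invertible for an integral morphism -/
theorem isIso_bcQ_integral {X S X' S' : Scheme.{u}} {f : X ⟶ S} {g : S' ⟶ S} {f' : X' ⟶ S'} {g' : X' ⟶ X}
    (c : IsPullback g' f' f g) [IsIntegralHom f] [PreservesFiniteLimits (EtCoh.pull g')] (q : ℕ)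
    (F : EtCoh.Ab X) : IsIso (EtBC.bcQ f g f' g' c.w q F) := by
  have : IsIntegralHom f' := MorphismProperty.of_isPullback c ‹IsIntegralHom f›
  have := pullExact g
  cases q with
  | succ q =>
    exact (⟨⟨0, (Functor.map_isZero _ (isZero_Rpush_integral f q F)).eq_of_src _ _,
        (isZero_Rpush_integral f' q _).eq_of_src _ _⟩⟩)
  | zero =>
    rw [bcQ_eq]
    have := EtFound.push_preservesFiniteLimits f
    have := EtFound.push_preservesFiniteLimits f'
    have h := natMap_app_toRightDerivedZero (beta f g f' g' c.w) F
    have : IsIso ((beta f g f' g' c.w).app F) := by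
      rw [beta_app]
      exact EtFound.isIso_baseChange_of_integral c.flip.flip _ _ (EtFound.baseChange0_unit f g f' g' c.w _)
    have h2 : IsIso ((EtCoh.pull g).map ((EtCoh.push f).toRightDerivedZero.app F) ≫
        bc (beta f g f' g' c.w) 0 F) := by
      rw [h]; infer_instance
    exact @IsIso.of_isIso_comp_left _ _ _ _ _ _ _ inferInstance h2

end Groth.Agent.EtBCA.BCQ
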