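import Groth.Agent.EtBCA.BCQ.Chase
import Groth.Agent.EtBCA.Points
import Groth.Agent.EtBCA.QcAcyclic
import Groth.Prelude.Def_EtBase

/-!
# Sheaves killed by `n` and base change in one more degree
-/

set_option autoImplicit false
set_option linter.style.haveILetI false

universe u

open CategoryTheory CategoryTheory.Limits AlgebraicGeometry Opposite

namespace Groth.Agent.EtBCA.BCQ

set_option backward.isDefEq.respectTransparency.types false

theorem killedBy_of_nsmul_id {X : Scheme.{u}} {n : ℕ} {F : EtCoh.Ab X} (h : n • 𝟙 F = 0) :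
    EtCoh.KilledBy n F := fun U s =>
  ConcreteCategory.congr_hom (congrArg (fun φ : F ⟶ F => φ.hom.app (op U)) h) s

theorem nsmul_id_of_killedBy {X : Scheme.{u}} {n : ℕ} {F : EtCoh.Ab X} (h : EtCoh.KilledBy n F) :
    n • 𝟙 F = 0 := by
  apply ObjectProperty.hom_ext
  ext U : 2
  refine ConcreteCategory.hom_ext _ _ fun s => ?_
  exact h U.unop s

theorem killedBy_functor {X Y : Scheme.{u}} (T : EtCoh.Ab X ⥤ EtCoh.Ab Y) [T.Additive] {n : ℕ}
    {F : EtCoh.Ab X} (h : EtCoh.KilledBy n F) : EtCoh.KilledBy n (T.obj F) := by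
  refine killedBy_of_nsmul_id ?_
  rw [← T.map_id, ← Functor.map_nsmul, nsmul_id_of_killedBy h, Functor.map_zero]

theorem killedBy_pull {X Y : Scheme.{u}} (f : X ⟶ Y) {n : ℕ} {F : EtCoh.Ab Y}
    (h : EtCoh.KilledBy n F) : EtCoh.KilledBy n ((EtCoh.pull f).obj F) :=
  have : (EtCoh.pull f).Additive := pullAdditive f
  killedBy_functor (EtCoh.pull f) h

theorem killedBy_of_epi {X : Scheme.{u}} {n : ℕ} {F G : EtCoh.Ab X} (φ : F ⟶ G) [Epi φ]
    (h : EtCoh.KilledBy n F) : EtCoh.KilledBy n G := by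
  refine killedBy_of_nsmul_id ((cancel_epi φ).1 ?_)
  rw [Preadditive.comp_nsmul, Category.comp_id, comp_zero, ← Category.id_comp φ, ← Preadditive.nsmul_comp,
    nsmul_id_of_killedBy h, zero_comp]

theorem exists_efface_killed {X : Scheme.{u}} {n : ℕ} (F : EtCoh.Ab X) (h : EtCoh.KilledBy n F) :
    ∃ (I : EtCoh.Ab X) (u : F ⟶ I), Mono u ∧ EtCoh.KilledBy n I ∧ QcAcyclic I := by
  have := ptsMap_unit_mono X F
  have : (EtCoh.pull (ptsMap X)).Additive := pullAdditive _
  have : (EtCoh.push (ptsMap X)).Additive := (EtCoh.pullPushAdj (ptsMap X)).right_adjoint_additive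
  exact ⟨_, (EtCoh.pullPushAdj (ptsMap X)).unit.app F, inferInstance,
    killedBy_functor (EtCoh.pull (ptsMap X) ⋙ EtCoh.push (ptsMap X)) h,
    qcAcyclic_of_flabby (flabby_ptsPush _)⟩

variable {X S X' S' : Scheme.{u}} {f : X ⟶ S} {g : S' ⟶ S} {f' : X' ⟶ S'} {g' : X' ⟶ X}
  (w : g' ≫ f = f' ≫ g) [QuasiCompact f] [QuasiSeparated f] [PreservesFiniteLimits (EtCoh.pull g')]

/-- isomorphism in degree `q` for all sheaves killed by `n` gives monomorphism in degree `q + 1` -/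
theorem mono_bcQ_succ_killed {n q : ℕ}
    (hiso : ∀ G : EtCoh.Ab X, EtCoh.KilledBy n G → IsIso (EtBC.bcQ f g f' g' w q G))
    (F : EtCoh.Ab X) (hF : EtCoh.KilledBy n F) : Mono (EtBC.bcQ f g f' g' w (q + 1) F) := by
  have := pullExact g
  obtain ⟨I, u, hu, hI, hIa⟩ := exists_efface_killed F hF
  let E := ShortComplex.mk u (cokernel.π u) (cokernel.condition u)
  have hE : E.ShortExact := { exact := ShortComplex.exact_of_g_is_cokernel _ (cokernelIsCokernel _) }
  have i₂ : IsIso (EtBC.bcQ f g f' g' w q E.X₂) := hiso I hI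
  have i₃ : IsIso (EtBC.bcQ f g f' g' w q E.X₃) := hiso _ (killedBy_of_epi (cokernel.π u) hI)
  exact mono_bcQ_succ w hE q (isRightAcyclic_push f hIa (q + 1) (by omega))
    (i₁ := IsIso.epi_of_iso _) (i₂ := IsIso.mono_of_iso _)

theorem exists_mono_cokernel_killed {n q : ℕ}
    (hiso : ∀ G : EtCoh.Ab X, EtCoh.KilledBy n G → IsIso (EtBC.bcQ f g f' g' w q G))
    {F G : EtCoh.Ab X} (ι : F ⟶ G) [Mono ι] (hG : EtCoh.KilledBy n G) :
    ∃ φ : cokernel (EtBC.bcQ f g f' g' w (q + 1) F) ⟶ cokernel (EtBC.bcQ f g f' g' w (q + 1) G),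
      Mono φ ∧ cokernel.π (EtBC.bcQ f g f' g' w (q + 1) F) ≫ φ =
        (EtCoh.Rpush f' (q + 1)).map ((EtCoh.pull g').map ι) ≫
          cokernel.π (EtBC.bcQ f g f' g' w (q + 1) G) := by
  have := pullExact g
  let E := ShortComplex.mk ι (cokernel.π ι) (cokernel.condition ι)
  have hE : E.ShortExact := { exact := ShortComplex.exact_of_g_is_cokernel _ (cokernelIsCokernel _) }
  have hQ := killedBy_of_epi (cokernel.π ι) hG
  have i₃ : IsIso (EtBC.bcQ f g f' g' w q E.X₃) := hiso _ hQ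
  exact exists_mono_cokernel_bcQ w hE q (i₁ := IsIso.epi_of_iso _)
    (i₂ := mono_bcQ_succ_killed w hiso E.X₃ hQ)

end Groth.Agent.EtBCA.BCQ
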