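import Groth.Agent.EtBCA.BCQ.CompOut
import Groth.Agent.EtBCA.BCQ.Paste

/-!
# Base change and the edge map `R^q (π ≫ g)_* H ⟶ g_* R^q π_* H`
-/

set_option autoImplicit false
set_option linter.style.haveILetI false

universe u

open CategoryTheory CategoryTheory.Limits AlgebraicGeometry

noncomputable section

namespace Groth.Agent.EtBCA.BCQ

set_option backward.isDefEq.respectTransparency false in
set_option backward.isDefEq.respectTransparency.types false in
theorem isIso_edgeOut {A : Type*} [Category* A] [Abelian A] [HasInjectiveResolutions A]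
    {B : Type*} [Category* B] [Abelian B] {C : Type*} [Category* C] [Abelian C]
    (Φ : A ⥤ B) [Φ.Additive] (Ψ : B ⥤ C) [Ψ.Additive] [PreservesFiniteLimits Ψ] [PreservesFiniteColimits Ψ]
    (q : ℕ) (X : A) : IsIso (RDer.edgeOut Φ Ψ q X) := by
  let K := (Φ.mapHomologicalComplex (ComplexShape.up ℕ)).obj (injectiveResolution X).cocomplex
  have e : RDer.homologyComparison Ψ K q = (hIso Ψ K q).hom := by
    rw [← cancel_epi (((Ψ.mapHomologicalComplex _).obj K).homologyπ q), RDer.homologyπ_homologyComparison,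
      zIso_π]
    refine congrArg (· ≫ _) ?_
    rw [← cancel_mono (Ψ.map (K.iCycles q)), RDer.cyclesComparison_i, zIso_i]
  dsimp only [RDer.edgeOut]
  rw [e]
  infer_instance

set_option backward.isDefEq.respectTransparency.types false

attribute [local instance] pullAdditive pullColimits

variable {S X T Y T' Y' : Scheme.{u}} (g : T ⟶ S) (f : X ⟶ S) (h : Y ⟶ X) (e : Y ⟶ T)
  (w : e ≫ g = h ≫ f) (π : T' ⟶ T) (π' : Y' ⟶ Y) (e' : Y' ⟶ T') (w' : e' ≫ π = π' ≫ e)
  (w'' : e' ≫ π ≫ g = (π' ≫ h) ≫ f)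
  [PreservesFiniteLimits (EtCoh.pull f)] [PreservesFiniteLimits (EtCoh.pull e)]
  [PreservesFiniteLimits (EtCoh.pull e')]

theorem bcQ_paste_out (q : ℕ) (H : EtCoh.Ab T') :
    EtBC.bcQ (π ≫ g) f (π' ≫ h) e' w'' q H ≫ EtBC.lerayEdgeOut π' h q ((EtCoh.pull e').obj H) =
      (EtCoh.pull f).map (EtBC.lerayEdgeOut π g q H) ≫
        EtCoh.baseChange0 g f h e w ((EtCoh.Rpush π q).obj H) ≫
          (EtCoh.push h).map (EtBC.bcQ π e π' e' w' q H) := by
  rw [bcQ_eq, bcQ_eq, ← beta_app]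
  dsimp only [EtBC.lerayEdgeOut]
  rw [Functor.map_comp, Category.assoc]
  have hc := bc_congr (Φ := EtCoh.push π ⋙ EtCoh.push g) (Ψ := EtCoh.push π' ⋙ EtCoh.push h)
    (comp2 (beta π e π' e' w') (beta g f h e w)) (beta (π ≫ g) f (π' ≫ h) e' w'')
    (EtCoh.pushComp g π) (EtCoh.pushComp h π') (fun K => by
      show (EtCoh.pull f).map ((EtCoh.pushComp g π).hom.app K) ≫ (beta (π ≫ g) f (π' ≫ h) e' w'').app K =
        ((beta g f h e w).app ((EtCoh.push π).obj K) ≫ (EtCoh.push h).map ((beta π e π' e' w').app K)) ≫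
          (EtCoh.pushComp h π').hom.app ((EtCoh.pull e').obj K)
      rw [beta_app, beta_app, beta_app, Category.assoc]
      exact baseChange0_paste g f h e w π π' e' w' w'' K) q H
  refine Eq.trans ?_ (congrArg (_ ≫ ·) (bc_comp_out (beta π e π' e' w') (beta g f h e w) q H))
  refine Eq.trans ?_ (Category.assoc _ _ _)
  refine (Category.assoc _ _ _).symm.trans (congrArg (· ≫ _) ?_)
  have hinv : ∀ {P Q : EtCoh.Ab X} {P₀ : EtCoh.Ab X} {P₁ : EtCoh.Ab X} (a : P ≅ Q) (b : P₀ ≅ P₁)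
      (x : Q ⟶ P₁) (y : P ⟶ P₀), a.hom ≫ x = y ≫ b.hom → x ≫ b.inv = a.inv ≫ y := by
    intro P Q P₀ P₁ a b x y hxy
    rw [Iso.comp_inv_eq, Category.assoc, ← hxy, Iso.inv_hom_id_assoc]
  exact hinv ((EtCoh.pull f).mapIso ((RDer.rightDerivedIso (EtCoh.pushComp g π) q).app H))
    ((RDer.rightDerivedIso (EtCoh.pushComp h π') q).app ((EtCoh.pull e').obj H)) _ _ hc

end Groth.Agent.EtBCA.BCQ
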