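import Groth.Agent.EtBCA.BCQ.Res
import Groth.Agent.EtBCA.BCQ.HIso

/-!
# The map `G ∘ R^q Φ ⟶ R^q Ψ ∘ E` of derived functors induced by a natural map `G ∘ Φ ⟶ Ψ ∘ E`
-/

set_option autoImplicit false
set_option backward.isDefEq.respectTransparency false

universe v₁ v₂ v₃ v₄ u₁ u₂ u₃ u₄

open CategoryTheory CategoryTheory.Limits HomologicalComplex

noncomputable section

namespace Groth.Agent.EtBCA.BCQ

variable {A : Type u₁} [Category.{v₁} A] [Abelian A] [HasInjectiveResolutions A]
  {B : Type u₂} [Category.{v₂} B] [Abelian B] [HasInjectiveResolutions B]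
  {C : Type u₃} [Category.{v₃} C] [Abelian C]
  {D : Type u₄} [Category.{v₄} D] [Abelian D]
  {Φ : A ⥤ C} [Φ.Additive] {Ψ : B ⥤ D} [Ψ.Additive]
  {E : A ⥤ B} [E.Additive] [PreservesFiniteLimits E] [PreservesFiniteColimits E]
  {G : C ⥤ D} [G.Additive] [PreservesFiniteLimits G] [PreservesFiniteColimits G]
  (β : Φ ⋙ G ⟶ E ⋙ Ψ)

/-- `β` applied termwise -/
def natMap (K : CochainComplex A ℕ) :
    (G.mapHomologicalComplex _).obj ((Φ.mapHomologicalComplex _).obj K) ⟶
      (Ψ.mapHomologicalComplex _).obj ((E.mapHomologicalComplex _).obj K) where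
  f n := β.app (K.X n)
  comm' i j _ := (β.naturality (K.d i j)).symm

theorem natMap_natural {K L : CochainComplex A ℕ} (φ : K ⟶ L) :
    (G.mapHomologicalComplex _).map ((Φ.mapHomologicalComplex _).map φ) ≫ natMap β L =
      natMap β K ≫ (Ψ.mapHomologicalComplex _).map ((E.mapHomologicalComplex _).map φ) := by
  ext n
  exact β.naturality (φ.f n)

/-- compatibility of a comparison of resolutions with the augmentations -/
def IsLift {X : A} (I : InjectiveResolution X) (J : InjectiveResolution (E.obj X))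
    (d : (E.mapHomologicalComplex _).obj I.cocomplex ⟶ J.cocomplex) : Prop :=
  E.map (I.ι.f 0) ≫ d.f 0 = J.ι.f 0

theorem exists_lift {X : A} (I : InjectiveResolution X) (J : InjectiveResolution (E.obj X)) :
    ∃ d, IsLift I J d := by
  have := fun n => J.injective n
  obtain ⟨d, hd⟩ := exists_desc (mapι E I) (L := J.cocomplex) J.ι (𝟙 (E.obj X))
  refine ⟨d, ?_⟩
  rw [mapι_f_zero] at hd
  exact hd.trans (Category.id_comp _)

/-- the map computed on given resolutions -/
def form (q : ℕ) {X : A} (I : InjectiveResolution X) (J : InjectiveResolution (E.obj X))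
    (d : (E.mapHomologicalComplex _).obj I.cocomplex ⟶ J.cocomplex) :
    G.obj ((Φ.rightDerived q).obj X) ⟶ (Ψ.rightDerived q).obj (E.obj X) :=
  G.map (I.isoRightDerivedObj Φ q).hom ≫ (hIso G _ q).inv ≫
    homologyMap (natMap β I.cocomplex ≫ (Ψ.mapHomologicalComplex _).map d) q ≫
      (J.isoRightDerivedObj Ψ q).inv

theorem form_natural (q : ℕ) {X X' : A} (h : X ⟶ X') (I : InjectiveResolution X)
    (J : InjectiveResolution (E.obj X)) (d : (E.mapHomologicalComplex _).obj I.cocomplex ⟶ J.cocomplex)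
    (hd : IsLift I J d) (I' : InjectiveResolution X') (J' : InjectiveResolution (E.obj X'))
    (d' : (E.mapHomologicalComplex _).obj I'.cocomplex ⟶ J'.cocomplex) (hd' : IsLift I' J' d') :
    G.map ((Φ.rightDerived q).map h) ≫ form β q I' J' d' =
      form β q I J d ≫ (Ψ.rightDerived q).map (E.map h) := by
  obtain ⟨φ, hφ⟩ := SESResLib.exists_desc h I I'
  obtain ⟨ψ, hψ⟩ := SESResLib.exists_desc (E.map h) J J'
  have := fun n => J'.injective n
  have key := homologyMap_eq (mapι E I) (L := J'.cocomplex) Ψ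
    ((E.mapHomologicalComplex _).map φ ≫ d') (d ≫ ψ) (by
      rw [mapι_f_zero, comp_f, comp_f, Functor.mapHomologicalComplex_map_f, ← E.map_comp_assoc]
      change E.map (SESResLib.ι₀ I ≫ φ.f 0) ≫ d'.f 0 = E.map (I.ι.f 0) ≫ d.f 0 ≫ ψ.f 0
      rw [hφ, E.map_comp, Category.assoc, reassoc_of% (show E.map (I.ι.f 0) ≫ d.f 0 = _ from hd)]
      exact ((congrArg (E.map h ≫ ·) hd').trans hψ.symm)) q
  have e₁ : (Φ.rightDerived q).map h ≫ (I'.isoRightDerivedObj Φ q).hom = (I.isoRightDerivedObj Φ q).hom ≫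
      homologyMap ((Φ.mapHomologicalComplex _).map φ) q :=
    InjectiveResolution.isoRightDerivedObj_hom_naturality h I I' φ hφ Φ q
  have e₄ : (J.isoRightDerivedObj Ψ q).inv ≫ (Ψ.rightDerived q).map (E.map h) =
      homologyMap ((Ψ.mapHomologicalComplex _).map ψ) q ≫ (J'.isoRightDerivedObj Ψ q).inv :=
    InjectiveResolution.isoRightDerivedObj_inv_naturality (E.map h) J J' ψ hψ Ψ q
  have e₂ : G.map (homologyMap ((Φ.mapHomologicalComplex _).map φ) q) ≫ (hIso G _ q).inv =
      (hIso G _ q).inv ≫ homologyMap ((G.mapHomologicalComplex _).map ((Φ.mapHomologicalComplex _).map φ)) q := by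
    rw [Iso.comp_inv_eq, Category.assoc, hIso_natural, Iso.inv_hom_id_assoc]
  have e₃ : homologyMap ((G.mapHomologicalComplex _).map ((Φ.mapHomologicalComplex _).map φ)) q ≫
      homologyMap (natMap β I'.cocomplex ≫ (Ψ.mapHomologicalComplex _).map d') q =
      homologyMap (natMap β I.cocomplex ≫ (Ψ.mapHomologicalComplex _).map d) q ≫
        homologyMap ((Ψ.mapHomologicalComplex _).map ψ) q := by
    rw [← homologyMap_comp, ← Category.assoc, natMap_natural, Category.assoc, ← Functor.map_comp,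
      homologyMap_comp, key, ← homologyMap_comp, Functor.map_comp, ← Category.assoc, homologyMap_comp]
  dsimp only [form]
  rw [← Category.assoc, ← G.map_comp]
  refine (congrArg (fun t => G.map t ≫ _) e₁).trans ?_
  rw [G.map_comp, Category.assoc, reassoc_of% e₂, reassoc_of% e₃]
  simp only [Category.assoc]
  exact congrArg _ (congrArg _ (congrArg _ e₄.symm))

/-- the map on derived functors -/
def bc (q : ℕ) (X : A) : G.obj ((Φ.rightDerived q).obj X) ⟶ (Ψ.rightDerived q).obj (E.obj X) :=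
  form β q (injectiveResolution X) (injectiveResolution (E.obj X))
    (exists_lift (injectiveResolution X) (injectiveResolution (E.obj X))).choose

theorem bc_eq (q : ℕ) {X : A} (I : InjectiveResolution X) (J : InjectiveResolution (E.obj X))
    (d : (E.mapHomologicalComplex _).obj I.cocomplex ⟶ J.cocomplex) (hd : IsLift I J d) :
    bc β q X = form β q I J d := by
  have := form_natural β q (𝟙 X) (injectiveResolution X) (injectiveResolution (E.obj X)) _
    (exists_lift (injectiveResolution X) (injectiveResolution (E.obj X))).choose_spec I J d hd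
  simpa [bc] using this.symm

@[reassoc]
theorem bc_natural (q : ℕ) {X X' : A} (h : X ⟶ X') :
    G.map ((Φ.rightDerived q).map h) ≫ bc β q X' = bc β q X ≫ (Ψ.rightDerived q).map (E.map h) :=
  form_natural β q h _ _ _ (exists_lift _ _).choose_spec _ _ _ (exists_lift _ _).choose_spec

theorem bc_delta {S : ShortComplex A} (hS : S.Exact) (T : RDer.SESRes S) (T' : RDer.SESRes (S.map E))
    (n₀ n₁ : ℕ) (h : n₀ + 1 = n₁) :
    G.map (T.delta Φ n₀ n₁ h) ≫ bc β n₁ S.X₁ = bc β n₀ S.X₃ ≫ T'.delta Ψ n₀ n₁ h := by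
  obtain ⟨a, ha⟩ := exists_lift (E := E) T.I₁ T'.I₁
  obtain ⟨c, hc⟩ := exists_lift (E := E) T.I₃ T'.I₃
  obtain ⟨ψ, rfl, rfl⟩ := exists_cxHom E T T' (𝟙 (S.map E)) a c hS
    (ha.trans (Category.id_comp _).symm) (hc.trans (Category.id_comp _).symm)
  rw [bc_eq β n₁ T.I₁ T'.I₁ ψ.τ₁ ha, bc_eq β n₀ T.I₃ T'.I₃ ψ.τ₃ hc]
  have hG : ((T.cx.map (Φ.mapHomologicalComplex _)).map (G.mapHomologicalComplex _)).ShortExact :=
    HomologicalComplex.shortExact_of_degreewise_shortExact _
      fun n => (((T.splitting n).map Φ).map G).shortExact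
  let m : (T.cx.map (Φ.mapHomologicalComplex _)).map (G.mapHomologicalComplex _) ⟶
      T'.cx.map (Ψ.mapHomologicalComplex _) :=
    ShortComplex.homMk
      (natMap β T.I₁.cocomplex ≫ (Ψ.mapHomologicalComplex _).map ψ.τ₁)
      (natMap β T.I₂.cocomplex ≫ (Ψ.mapHomologicalComplex _).map ψ.τ₂)
      (natMap β T.I₃.cocomplex ≫ (Ψ.mapHomologicalComplex _).map ψ.τ₃)
      (by
        refine (Category.assoc _ _ _).trans ((congrArg (_ ≫ ·) ((Functor.map_comp _ _ _).symm.trans
          ((congrArg (Ψ.mapHomologicalComplex _).map ψ.comm₁₂).trans (Functor.map_comp _ _ _)))).trans ?_)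
        exact (Category.assoc _ _ _).symm.trans ((congrArg (· ≫ _) (natMap_natural β T.f).symm).trans
          (Category.assoc _ _ _)))
      (by
        refine (Category.assoc _ _ _).trans ((congrArg (_ ≫ ·) ((Functor.map_comp _ _ _).symm.trans
          ((congrArg (Ψ.mapHomologicalComplex _).map ψ.comm₂₃).trans (Functor.map_comp _ _ _)))).trans ?_)
        exact (Category.assoc _ _ _).symm.trans ((congrArg (· ≫ _) (natMap_natural β T.g).symm).trans
          (Category.assoc _ _ _)))
  have nat := HomologicalComplex.HomologySequence.δ_naturality m hG (T'.map_shortExact Ψ) n₀ n₁ h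
  have hd := map_δ G (T.map_shortExact Φ) hG n₀ n₁ h
  have e₂ : G.map ((T.map_shortExact Φ).δ n₀ n₁ h) ≫ (hIso G _ n₁).inv =
      (hIso G _ n₀).inv ≫ hG.δ n₀ n₁ h := by
    rw [Iso.comp_inv_eq, Category.assoc]
    exact ((Iso.inv_hom_id_assoc _ _).symm.trans (congrArg (_ ≫ ·) hd.symm))
  dsimp only [form]
  rw [RDer.SESRes.delta, RDer.SESRes.delta, G.map_comp, G.map_comp]
  simp only [Category.assoc, Iso.inv_hom_id_assoc]
  rw [show G.map (T.I₁.isoRightDerivedObj Φ n₁).inv = (G.mapIso (T.I₁.isoRightDerivedObj Φ n₁)).inv from rfl,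
    show G.map (T.I₁.isoRightDerivedObj Φ n₁).hom = (G.mapIso (T.I₁.isoRightDerivedObj Φ n₁)).hom from rfl,
    Iso.inv_hom_id_assoc]
  refine congrArg (G.map (T.I₃.isoRightDerivedObj Φ n₀).hom ≫ ·) ?_
  refine (Category.assoc _ _ _).symm.trans ((congrArg (· ≫ _) e₂).trans ((Category.assoc _ _ _).trans ?_))
  refine congrArg (_ ≫ ·) ?_
  refine (Category.assoc _ _ _).symm.trans ((congrArg (· ≫ _) nat).trans (Category.assoc _ _ _))

theorem natMap_app_toRightDerivedZero (X : A) :
    G.map (Φ.toRightDerivedZero.app X) ≫ bc β 0 X = β.app X ≫ Ψ.toRightDerivedZero.app (E.obj X) := by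
  let I := injectiveResolution X
  let J := injectiveResolution (E.obj X)
  obtain ⟨d, hd⟩ := exists_lift (E := E) I J
  rw [bc_eq β 0 I J d hd, I.toRightDerivedZero_eq Φ, J.toRightDerivedZero_eq Ψ]
  dsimp only [form]
  rw [G.map_comp, G.map_comp]
  simp only [Category.assoc]
  rw [show G.map (I.isoRightDerivedObj Φ 0).inv = (G.mapIso (I.isoRightDerivedObj Φ 0)).inv from rfl,
    show G.map (I.isoRightDerivedObj Φ 0).hom = (G.mapIso (I.isoRightDerivedObj Φ 0)).hom from rfl,
    Iso.inv_hom_id_assoc,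
    RDer.isoHomologyπ₀_hom_eq]
  have e : G.map (((Φ.mapHomologicalComplex _).obj I.cocomplex).homologyπ 0) ≫
      (hIso G _ 0).inv = (zIso G _ 0).inv ≫
        ((G.mapHomologicalComplex _).obj ((Φ.mapHomologicalComplex _).obj I.cocomplex)).homologyπ 0 := by
    rw [Iso.comp_inv_eq, Category.assoc, zIso_π, Iso.inv_hom_id_assoc]
  rw [reassoc_of% e, homologyπ_naturality_assoc, RDer.isoHomologyπ₀_hom_eq]
  simp only [← Category.assoc]
  refine congrArg (· ≫ _) (congrArg (· ≫ _) ?_)
  simp only [Category.assoc]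
  rw [← cancel_mono (((Ψ.mapHomologicalComplex _).obj J.cocomplex).iCycles 0)]
  simp only [Category.assoc, cyclesMap_i, InjectiveResolution.toRightDerivedZero'_comp_iCycles]
  rw [← zIso_i_assoc G, Iso.inv_hom_id_assoc, ← G.map_comp_assoc,
    InjectiveResolution.toRightDerivedZero'_comp_iCycles]
  change G.map (Φ.map (I.ι.f 0)) ≫ β.app (I.cocomplex.X 0) ≫ Ψ.map (d.f 0) =
    β.app X ≫ Ψ.map (J.ι.f 0)
  refine (Category.assoc _ _ _).symm.trans ((congrArg (· ≫ _) (β.naturality (I.ι.f 0))).trans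
    ((Category.assoc _ _ _).trans (congrArg (β.app X ≫ ·) ?_)))
  exact ((Ψ.map_comp _ _).symm.trans (congrArg Ψ.map hd))

end Groth.Agent.EtBCA.BCQ
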