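import Groth.Agent.SiteBase.SESResLib
import Groth.Prelude.Def_RDerDelta

/-!
# Maps from exact complexes into complexes of injectives
-/

set_option autoImplicit false

universe v u v' u' v'' u''

open CategoryTheory CategoryTheory.Limits

noncomputable section

namespace Groth.Agent.EtBCA.BCQ

variable {A : Type u} [Category.{v} A] [Abelian A]

section Unique

variable {Y : A} {K : CochainComplex A ℕ} (ι : (CochainComplex.single₀ A).obj Y ⟶ K) [QuasiIso ι]
  {L : CochainComplex A ℕ} [∀ n, Injective (L.X n)] (f : K ⟶ L)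

/-- first component of the homotopy -/
def hZero (h : ι.f 0 ≫ f.f 0 = 0) : K.X 1 ⟶ L.X 0 :=
  (RDer.res_exact₀ K ι).descToInjective (f.f 0) h

theorem d_hZero (h : ι.f 0 ≫ f.f 0 = 0) : K.d 0 1 ≫ hZero ι f h = f.f 0 :=
  (RDer.res_exact₀ K ι).comp_descToInjective _ _

/-- second component of the homotopy -/
def hOne (h : ι.f 0 ≫ f.f 0 = 0) : K.X 2 ⟶ L.X 1 :=
  (RDer.res_exact_succ K ι 0).descToInjective (f.f 1 - hZero ι f h ≫ L.d 0 1)
    (by rw [Preadditive.comp_sub, reassoc_of% (d_hZero ι f h), HomologicalComplex.Hom.comm, sub_self])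

theorem d_hOne (h : ι.f 0 ≫ f.f 0 = 0) : K.d 1 2 ≫ hOne ι f h = f.f 1 - hZero ι f h ≫ L.d 0 1 :=
  (RDer.res_exact_succ K ι 0).comp_descToInjective _ _

/-- the further components of the homotopy -/
def hSucc (n : ℕ) (g : K.X (n + 1) ⟶ L.X n) (g' : K.X (n + 2) ⟶ L.X (n + 1))
    (w : f.f (n + 1) = K.d (n + 1) (n + 2) ≫ g' + g ≫ L.d n (n + 1)) : K.X (n + 3) ⟶ L.X (n + 2) :=
  (RDer.res_exact_succ K ι (n + 1)).descToInjective (f.f (n + 2) - g' ≫ L.d _ _) (by
    dsimp
    rw [Preadditive.comp_sub, ← HomologicalComplex.Hom.comm, w, Preadditive.add_comp,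
      Category.assoc, Category.assoc, HomologicalComplex.d_comp_d, comp_zero, add_zero, sub_self])

theorem d_hSucc (n : ℕ) (g : K.X (n + 1) ⟶ L.X n) (g' : K.X (n + 2) ⟶ L.X (n + 1))
    (w : f.f (n + 1) = K.d (n + 1) (n + 2) ≫ g' + g ≫ L.d n (n + 1)) :
    K.d (n + 2) (n + 3) ≫ hSucc ι f n g g' w = f.f (n + 2) - g' ≫ L.d _ _ :=
  (RDer.res_exact_succ K ι (n + 1)).comp_descToInjective _ _

/-- A map out of a resolution into a complex of injectives killing the resolved object is null-homotopic. -/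
def homotopyZero (h : ι.f 0 ≫ f.f 0 = 0) : Homotopy f 0 :=
  Homotopy.mkCoinductive _ (hZero ι f h) (d_hZero ι f h).symm
    (hOne ι f h) (by rw [d_hOne]; abel) (fun n ⟨g, g', w⟩ =>
    ⟨hSucc ι f n g g' (by simp only [w, add_comm]), by rw [d_hSucc]; abel⟩)

omit f in
include ι in
/-- Two maps out of a resolution into a complex of injectives agreeing on the resolved object induce the
same map on cohomology after any additive functor. -/
theorem homologyMap_eq {B : Type u'} [Category.{v'} B] [Abelian B] (Φ : A ⥤ B) [Φ.Additive]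
    (f g : K ⟶ L) (h : ι.f 0 ≫ f.f 0 = ι.f 0 ≫ g.f 0) (n : ℕ) :
    HomologicalComplex.homologyMap ((Φ.mapHomologicalComplex _).map f) n =
      HomologicalComplex.homologyMap ((Φ.mapHomologicalComplex _).map g) n :=
  (Φ.mapHomotopy (Homotopy.equivSubZero.invFun
    (homotopyZero ι (f - g) (by rw [HomologicalComplex.sub_f_apply, Preadditive.comp_sub, h, sub_self])))).homologyMap_eq n

omit [QuasiIso ι] f in
/-- Existence of a map over a given map of the resolved objects. -/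
theorem exists_desc [QuasiIso ι] {Z : A} (η : (CochainComplex.single₀ A).obj Z ⟶ L) (φ : Y ⟶ Z) :
    ∃ d : K ⟶ L, ι.f 0 ≫ d.f 0 = φ ≫ η.f 0 :=
  ⟨RDer.descToInjectives φ K ι L η, RDer.ι_descToInjectives_f_zero φ K ι L η⟩

end Unique

section SES

variable {B : Type u'} [Category.{v'} B] [Abelian B] (E : A ⥤ B) [E.Additive]
  [PreservesFiniteLimits E] [PreservesFiniteColimits E]

/-- the augmentation of the image of a resolution under an exact functor -/
abbrev mapι {X : A} (I : InjectiveResolution X) :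
    (CochainComplex.single₀ B).obj (E.obj X) ⟶ (E.mapHomologicalComplex _).obj I.cocomplex :=
  RDer.mapAug E I.ι

theorem mapι_f_zero {X : A} (I : InjectiveResolution X) : (mapι E I).f 0 = E.map (I.ι.f 0) := by
  simp [mapι, RDer.mapAug]
  exact Category.id_comp _

variable {S : ShortComplex A} (T : RDer.SESRes S) {S' : ShortComplex B} (T' : RDer.SESRes S')
  (φ : S.map E ⟶ S') (a : (E.mapHomologicalComplex _).obj T.I₁.cocomplex ⟶ T'.I₁.cocomplex)
  (c : (E.mapHomologicalComplex _).obj T.I₃.cocomplex ⟶ T'.I₃.cocomplex)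

/-- partial middle components -/
def EMid (n : ℕ) : Type v' :=
  {b : E.obj (T.I₂.cocomplex.X n) ⟶ T'.I₂.cocomplex.X n //
    E.map (T.f.f n) ≫ b = a.f n ≫ T'.f.f n ∧ b ≫ T'.g.f n = E.map (T.g.f n) ≫ c.f n ∧
      E.map (SESResLib.aug T.I₂ n) ≫ b ≫ T'.I₂.cocomplex.d n (n + 1) = 0}

theorem map_aug₃_eq_zero {n : ℕ} {W : B} (D : E.obj (T.I₃.cocomplex.X n) ⟶ W)
    (h : E.map (SESResLib.aug T.I₂ n) ≫ E.map (T.g.f n) ≫ D = 0) :
    E.map (SESResLib.aug T.I₃ n) ≫ D = 0 := by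
  cases n with
  | zero =>
    have := SESResLib.epi_S_g T
    have e : SESResLib.aug T.I₂ 0 ≫ T.g.f 0 = S.g ≫ SESResLib.aug T.I₃ 0 :=
      SESResLib.ι₀_comm T.ι_g
    refine (cancel_epi (E.map S.g)).1 (Eq.trans ?_ comp_zero.symm)
    exact (Category.assoc _ _ _).symm.trans ((congrArg (· ≫ D) ((E.map_comp _ _).symm.trans
      ((congrArg E.map e).symm.trans (E.map_comp _ _)))).trans ((Category.assoc _ _ _).trans h))
  | succ n =>
    have := SESResLib.epi_g T n
    have e : T.I₂.cocomplex.d n (n + 1) ≫ T.g.f (n + 1) = T.g.f n ≫ T.I₃.cocomplex.d n (n + 1) :=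
      (T.g.comm n (n + 1)).symm
    change E.map (T.I₂.cocomplex.d n (n + 1)) ≫ _ = 0 at h
    rw [← E.map_comp_assoc, e, E.map_comp, Category.assoc] at h
    exact (cancel_epi (E.map (T.g.f n))).1 (h.trans comp_zero.symm)

theorem emid_succ {n : ℕ} (m : EMid E T T' a c n) :
    ∃ m' : EMid E T T' a c (n + 1),
      E.map (T.I₂.cocomplex.d n (n + 1)) ≫ m'.1 = m.1 ≫ T'.I₂.cocomplex.d n (n + 1) := by
  obtain ⟨b, hb₁, hb₃, hb⟩ := m
  have := SESResLib.mono_f T' (n + 1)
  have := SESResLib.epi_g T n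
  have := T'.I₁.injective (n + 1)
  have hc := fun i j => c.comm i j
  have ha := fun i j => a.comm i j
  obtain ⟨b', h₁, h₃, h⟩ := SESResLib.exists_mid ((SESResLib.split T (n + 1)).map E)
    (SESResLib.split T' (n + 1)) ((SESResLib.split T n).map E).shortExact.exact
    (a.f (n + 1)) (c.f (n + 1)) (E.map (T.I₁.cocomplex.d n (n + 1))) (E.map (T.I₂.cocomplex.d n (n + 1)))
    (E.map (T.I₃.cocomplex.d n (n + 1))) (b ≫ T'.I₂.cocomplex.d n (n + 1))
    (by rw [← E.map_comp, ← E.map_comp, T.f.comm])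
    (by rw [← E.map_comp, ← E.map_comp, T.g.comm])
    ((Category.assoc _ _ _).symm.trans ((congrArg (· ≫ _) hb₁).trans ((Category.assoc _ _ _).trans
      ((congrArg (a.f n ≫ ·) (T'.f.comm n (n + 1))).trans (((Category.assoc _ _ _).symm.trans
        (congrArg (· ≫ _) (ha n (n + 1)))).trans (Category.assoc _ _ _))))))
    ((Category.assoc _ _ _).trans ((congrArg (b ≫ ·) (T'.g.comm n (n + 1)).symm).trans
      ((Category.assoc _ _ _).symm.trans ((congrArg (· ≫ _) hb₃).trans ((Category.assoc _ _ _).trans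
        ((congrArg (E.map (T.g.f n) ≫ ·) (hc n (n + 1))).trans rfl))))))
    (fun D b₀ _ _ hD => by
      have h0 : E.map (SESResLib.aug T.I₃ n) ≫ D = 0 := by
        apply map_aug₃_eq_zero E T D
        rw [← cancel_mono (T'.f.f (n + 1)), Category.assoc, Category.assoc, zero_comp, hD,
          Preadditive.comp_sub, hb, ← E.map_comp_assoc, SESResLib.aug_d T.I₂ n, E.map_zero, zero_comp,
          sub_zero]
      exact ⟨((SESResLib.aug_exact T.I₃ n).map E).descToInjective D h0,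
        ((SESResLib.aug_exact T.I₃ n).map E).comp_descToInjective _ _⟩)
  refine ⟨⟨b', h₁, h₃, ?_⟩, h⟩
  change E.map (T.I₂.cocomplex.d n (n + 1)) ≫ _ = 0
  rw [reassoc_of% h, HomologicalComplex.d_comp_d, comp_zero]

theorem emid_zero (hS : S.Exact) (ha : E.map (SESResLib.ι₀ T.I₁) ≫ a.f 0 = φ.τ₁ ≫ SESResLib.ι₀ T'.I₁)
    (hc : E.map (SESResLib.ι₀ T.I₃) ≫ c.f 0 = φ.τ₃ ≫ SESResLib.ι₀ T'.I₃) :
    Nonempty (EMid E T T' a c 0) := by
  have := SESResLib.epi_S_g T
  have := T'.I₁.injective 0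
  obtain ⟨b, h₁, h₃, h⟩ := SESResLib.exists_mid ((SESResLib.split T 0).map E) (SESResLib.split T' 0)
    (hS.map E)
    (a.f 0) (c.f 0) (E.map (SESResLib.ι₀ T.I₁)) (E.map (SESResLib.ι₀ T.I₂)) (E.map (SESResLib.ι₀ T.I₃))
    (φ.τ₂ ≫ SESResLib.ι₀ T'.I₂)
    (by rw [← E.map_comp, ← E.map_comp, SESResLib.ι₀_comm T.ι_f])
    (by rw [← E.map_comp, ← E.map_comp, SESResLib.ι₀_comm T.ι_g])
    ((Category.assoc _ _ _).symm.trans ((congrArg (· ≫ SESResLib.ι₀ T'.I₂) φ.comm₁₂.symm).trans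
      ((Category.assoc _ _ _).trans ((congrArg (φ.τ₁ ≫ ·) (SESResLib.ι₀_comm T'.ι_f).symm).trans
        ((Category.assoc _ _ _).symm.trans ((congrArg (· ≫ T'.f.f 0) ha.symm).trans (Category.assoc _ _ _)))))))
    ((Category.assoc _ _ _).trans ((congrArg (φ.τ₂ ≫ ·) (SESResLib.ι₀_comm T'.ι_g)).trans
      ((Category.assoc _ _ _).symm.trans ((congrArg (· ≫ SESResLib.ι₀ T'.I₃) φ.comm₂₃).trans
        ((Category.assoc _ _ _).trans (congrArg (E.map S.g ≫ ·) hc.symm))))))
    (fun D _ _ _ _ => ⟨Injective.factorThru D (E.map (SESResLib.ι₀ T.I₃)), Injective.comp_factorThru _ _⟩)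
  exact ⟨⟨b, h₁, h₃, by
    change E.map (SESResLib.ι₀ T.I₂) ≫ _ = 0
    rw [reassoc_of% h, SESResLib.ι₀_d, comp_zero]⟩⟩

include φ in
/-- A morphism from the image of a resolved sequence to a resolved sequence. -/
theorem exists_cxHom (hS : S.Exact) (ha : E.map (SESResLib.ι₀ T.I₁) ≫ a.f 0 = φ.τ₁ ≫ SESResLib.ι₀ T'.I₁)
    (hc : E.map (SESResLib.ι₀ T.I₃) ≫ c.f 0 = φ.τ₃ ≫ SESResLib.ι₀ T'.I₃) :
    ∃ ψ : T.cx.map (E.mapHomologicalComplex _) ⟶ T'.cx, ψ.τ₁ = a ∧ ψ.τ₃ = c := by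
  obtain ⟨m₀⟩ := emid_zero E T T' φ a c hS ha hc
  let ms : ∀ n, EMid E T T' a c n := fun n =>
    Nat.rec m₀ (fun k m => (emid_succ E T T' a c m).choose) n
  let b : (E.mapHomologicalComplex _).obj T.I₂.cocomplex ⟶ T'.I₂.cocomplex :=
    { f := fun n => (ms n).1
      comm' := fun i j hij => by
        obtain rfl : i + 1 = j := hij
        exact ((emid_succ E T T' a c (ms i)).choose_spec).symm }
  refine ⟨ShortComplex.homMk a b c ?_ ?_, rfl, rfl⟩
  · ext n
    exact (ms n).2.1.symm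
  · ext n
    exact (ms n).2.2.1

end SES

end Groth.Agent.EtBCA.BCQ
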