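import Groth.Agent.EtBCA.BCQ.EtaleLocal
import Groth.Prelude.Def_EtBCD

/-!
# Base change of sheaves of sets along etale morphisms, and etale locality
-/

set_option autoImplicit false
set_option linter.style.haveILetI false

universe u

open CategoryTheory CategoryTheory.Limits AlgebraicGeometry Opposite

noncomputable section

namespace Groth.Agent.EtBCA.BCQ

set_option backward.isDefEq.respectTransparency.types false

theorem homEquiv_pullCompSh {X Y Z : Scheme.{u}} (f : X ⟶ Y) (g : Y ⟶ Z) (A : EtDesc.Sh Z) (B : EtDesc.Sh X)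
    (k : (EtDesc.pullSh f).obj ((EtDesc.pullSh g).obj A) ⟶ B) :
    (EtDesc.adjSh (f ≫ g)).homEquiv A B ((EtDesc.pullCompSh f g).hom.app A ≫ k) =
      (EtDesc.adjSh g).homEquiv _ _ ((EtDesc.adjSh f).homEquiv _ _ k) ≫
        (EtDesc.pushCompSh g f).hom.app B := by
  rw [Adjunction.homEquiv_naturality_right]
  dsimp only [EtDesc.pullCompSh]
  rw [Adjunction.homEquiv_leftAdjointUniq_hom_app, ← Adjunction.homEquiv_unit]
  simp [Adjunction.ofNatIsoRight, Adjunction.homEquiv_unit]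
  exact congrArg _ (congrArg _ ((EtDesc.pushCompSh g f).hom.naturality k).symm)

/-- the comparison of direct images around a square -/
def sqIsoSh {X S X' S' : Scheme.{u}} (f : X ⟶ S) (g : S' ⟶ S) (f' : X' ⟶ S') (g' : X' ⟶ X)
    (w : g' ≫ f = f' ≫ g) : EtDesc.pushSh g' ⋙ EtDesc.pushSh f ≅ EtDesc.pushSh f' ⋙ EtDesc.pushSh g :=
  EtDesc.pushCompSh f g' ≪≫ EtBC.pushCongrSh w ≪≫ (EtDesc.pushCompSh g f').symm

section HPaste

variable {X S Y T W Z : Scheme.{u}} (f : X ⟶ S) (g : T ⟶ S) (h : Y ⟶ X) (e : Y ⟶ T) (w : e ≫ g = h ≫ f)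
  (i : W ⟶ X) (j : Z ⟶ W) (k : Z ⟶ Y) (w' : k ≫ h = j ≫ i) (w'' : (k ≫ e) ≫ g = j ≫ i ≫ f)

theorem sqIsoSh_hpaste (K : EtDesc.Sh Z) :
    (sqIsoSh g f h e w).hom.app ((EtDesc.pushSh k).obj K) ≫ (EtDesc.pushSh f).map ((sqIsoSh h i j k w').hom.app K) ≫
        (EtDesc.pushCompSh f i).hom.app ((EtDesc.pushSh j).obj K) =
      (EtDesc.pushSh g).map ((EtDesc.pushCompSh e k).hom.app K) ≫ (sqIsoSh g (i ≫ f) j (k ≫ e) w'').hom.app K := by
  apply ObjectProperty.hom_ext
  apply NatTrans.ext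
  funext U
  dsimp only [sqIsoSh, Iso.trans_hom, Iso.symm_hom, NatTrans.comp_app, InducedCategory.comp_hom,
    EtDesc.pushCompSh, EtBC.pushCongrSh, Functor.sheafPushforwardContinuousComp',
    Functor.sheafPushforwardContinuousIso]
  change (K.obj.map _ ≫ K.obj.map _ ≫ K.obj.map _) ≫ (K.obj.map _ ≫ K.obj.map _ ≫ K.obj.map _) ≫ K.obj.map _ =
    K.obj.map _ ≫ K.obj.map _ ≫ K.obj.map _ ≫ K.obj.map _
  simp only [← Functor.map_comp]
  apply congrArg K.obj.map
  apply Quiver.Hom.unop_inj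
  apply MorphismProperty.Over.Hom.ext
  simp only [NatTrans.op_app, unop_comp, Iso.symm_inv, Functor.op_map, Quiver.Hom.unop_op, Functor.op_obj, unop_op]
  show (((EtCoh.bc j).map (cH i f _) ≫ (cI j i _ ≫ cC w' _) ≫ cH k h _) ≫
      (EtCoh.bc k).map ((cI h f _ ≫ cC w _) ≫ cH e g _)).left =
    (((cI j (i ≫ f) _ ≫ cC w'' _) ≫ cH (k ≫ e) g _) ≫ cH k e _).left
  simp only [compLeft, Functor.map_comp, Category.assoc]
  apply pb_ext k
  · apply pb_ext e
    · apply pb_ext g <;> simp [cH_fst_assoc, cH_fst, cI_fst_assoc, cI_fst, cC_fst_assoc, cC_fst,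
        map_fst_assoc, map_fst, cH_snd, cH_snd_assoc, cI_snd_assoc, cI_snd, cC_snd_assoc, cC_snd, map_snd,
        map_snd_assoc, p_comm, p_comm_assoc, w, w']
    · simp [cH_fst_assoc, cH_fst, cI_fst_assoc, cI_fst, cC_fst_assoc, cC_fst,
        map_fst_assoc, map_fst, cH_snd, cH_snd_assoc, cI_snd_assoc, cI_snd, cC_snd_assoc, cC_snd, map_snd,
        map_snd_assoc, p_comm, p_comm_assoc, w, w']
  · simp [cH_fst_assoc, cH_fst, cI_fst_assoc, cI_fst, cC_fst_assoc, cC_fst,
        map_fst_assoc, map_fst, cH_snd, cH_snd_assoc, cI_snd_assoc, cI_snd, cC_snd_assoc, cC_snd, map_snd,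
        map_snd_assoc, p_comm, p_comm_assoc, w, w']

theorem baseChange0Sh_hpaste (F : EtDesc.Sh T) :
    (EtDesc.pullCompSh i f).hom.app ((EtDesc.pushSh g).obj F) ≫
        (EtDesc.pullSh i).map (EtBC.baseChange0Sh g f h e w F) ≫
          EtBC.baseChange0Sh h i j k w' ((EtDesc.pullSh e).obj F) =
      EtBC.baseChange0Sh g (i ≫ f) j (k ≫ e) w'' F ≫ (EtDesc.pushSh j).map ((EtDesc.pullCompSh k e).hom.app F) := by
  have hb : ∀ {A B C D : Scheme.{u}} (a : A ⟶ B) (b : C ⟶ B) (a' : D ⟶ C) (b' : D ⟶ A) (ww : b' ≫ a = a' ≫ b)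
      (K : EtDesc.Sh A), (EtDesc.adjSh b).homEquiv _ _ (EtBC.baseChange0Sh a b a' b' ww K) =
        (EtDesc.pushSh a).map ((EtDesc.adjSh b').unit.app K) ≫ (sqIsoSh a b a' b' ww).hom.app _ := by
    intro A B C D a b a' b' ww K
    rw [EtBC.baseChange0Sh, Equiv.apply_symm_apply]
    rfl
  apply ((EtDesc.adjSh (i ≫ f)).homEquiv _ _).injective
  rw [homEquiv_pullCompSh, Adjunction.homEquiv_naturality_left, hb, Adjunction.homEquiv_naturality_right, hb,
    Adjunction.homEquiv_naturality_right, hb]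
  let K := (EtDesc.pullSh k).obj ((EtDesc.pullSh e).obj F)
  have hη : (EtDesc.adjSh (k ≫ e)).unit.app F ≫ (EtDesc.pushSh (k ≫ e)).map ((EtDesc.pullCompSh k e).hom.app F) =
      (EtDesc.adjSh e).unit.app F ≫ (EtDesc.pushSh e).map ((EtDesc.adjSh k).unit.app ((EtDesc.pullSh e).obj F)) ≫
        (EtDesc.pushCompSh e k).hom.app K := by
    have h1 := homEquiv_pullCompSh k e F K (𝟙 K)
    erw [Category.comp_id, Adjunction.homEquiv_id, Adjunction.homEquiv_unit, Adjunction.homEquiv_unit,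
      Category.assoc] at h1
    exact h1
  have hn : (sqIsoSh g f h e w).hom.app ((EtDesc.pullSh e).obj F) ≫
      (EtDesc.pushSh f).map ((EtDesc.pushSh h).map ((EtDesc.adjSh k).unit.app ((EtDesc.pullSh e).obj F))) =
      (EtDesc.pushSh g).map ((EtDesc.pushSh e).map ((EtDesc.adjSh k).unit.app ((EtDesc.pullSh e).obj F))) ≫
        (sqIsoSh g f h e w).hom.app ((EtDesc.pushSh k).obj K) :=
    ((sqIsoSh g f h e w).hom.naturality ((EtDesc.adjSh k).unit.app ((EtDesc.pullSh e).obj F))).symm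
  have hn' : (sqIsoSh g (i ≫ f) j (k ≫ e) w'').hom.app ((EtDesc.pullSh (k ≫ e)).obj F) ≫
      (EtDesc.pushSh (i ≫ f)).map ((EtDesc.pushSh j).map ((EtDesc.pullCompSh k e).hom.app F)) =
      (EtDesc.pushSh g).map ((EtDesc.pushSh (k ≫ e)).map ((EtDesc.pullCompSh k e).hom.app F)) ≫
        (sqIsoSh g (i ≫ f) j (k ≫ e) w'').hom.app K :=
    ((sqIsoSh g (i ≫ f) j (k ≫ e) w'').hom.naturality ((EtDesc.pullCompSh k e).hom.app F)).symm
  simp only [Functor.map_comp, Category.assoc]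
  refine Eq.trans ?_ (congrArg (_ ≫ ·) hn').symm
  refine Eq.trans ?_ ((congrArg (· ≫ _) ((congrArg (EtDesc.pushSh g).map hη).symm.trans
    ((EtDesc.pushSh g).map_comp _ _))).trans (Category.assoc _ _ _))
  simp only [Functor.map_comp, Category.assoc]
  refine congrArg (_ ≫ ·) ?_
  refine (Category.assoc _ _ _).symm.trans ((congrArg (· ≫ _) hn).trans ((Category.assoc _ _ _).trans ?_))
  exact congrArg (_ ≫ ·) (sqIsoSh_hpaste f g h e w i j k w' w'' K)

end HPaste

section Etale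

variable {X S X' S' : Scheme.{u}} {f : X ⟶ S} {g : S' ⟶ S} {f' : X' ⟶ S'} {g' : X' ⟶ X}

/-- restriction of sheaves of sets along an etale morphism -/
abbrev restrSh {U X : Scheme.{u}} (j : U ⟶ X) [AlgebraicGeometry.Etale j] [EtShriek.JCont j] :
    EtDesc.Sh X ⥤ EtDesc.Sh U :=
  (EtShriek.compEtale j).sheafPushforwardContinuous (Type (u + 1)) U.smallEtaleTopology X.smallEtaleTopology

/-- restriction is left adjoint to direct image -/
abbrev restrPushAdjSh {U X : Scheme.{u}} (j : U ⟶ X) [AlgebraicGeometry.Etale j] [EtShriek.JCont j] :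
    restrSh j ⊣ EtDesc.pushSh j :=
  (DualLib.compBcAdj j).sheafPushforwardContinuous (E := Type (u + 1)) U.smallEtaleTopology X.smallEtaleTopology

/-- restriction is inverse image -/
def restrPullIsoSh {U X : Scheme.{u}} (j : U ⟶ X) [AlgebraicGeometry.Etale j] [EtShriek.JCont j] :
    restrSh j ≅ EtDesc.pullSh j :=
  Adjunction.leftAdjointUniq (restrPushAdjSh j) (EtDesc.adjSh j)

theorem unitSh_eq {U X : Scheme.{u}} (j : U ⟶ X) [AlgebraicGeometry.Etale j] [EtShriek.JCont j] (F : EtDesc.Sh X) :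
    (EtDesc.adjSh j).unit.app F =
      (restrPushAdjSh j).unit.app F ≫ (EtDesc.pushSh j).map ((restrPullIsoSh j).hom.app F) :=
  (Adjunction.unit_leftAdjointUniq_hom_app _ _ F).symm

theorem baseChange0Sh_unit (f : X ⟶ S) (g : S' ⟶ S) (f' : X' ⟶ S') (g' : X' ⟶ X)
    (w : g' ≫ f = f' ≫ g) (F : EtDesc.Sh X) (V : S.Etale) :
    ((EtDesc.adjSh g).unit.app ((EtDesc.pushSh f).obj F)).hom.app (op V) ≫
        (EtBC.baseChange0Sh f g f' g' w F).hom.app (op ((EtCoh.bc g).obj V)) =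
      ((EtDesc.adjSh g').unit.app F).hom.app (op ((EtCoh.bc f).obj V)) ≫
        ((EtDesc.pullSh g').obj F).obj.map (EtFound.bcSquare w V).op := by
  have h := ((EtDesc.adjSh g).homEquiv _ _).apply_symm_apply
    ((EtDesc.pushSh f).map ((EtDesc.adjSh g').unit.app F) ≫ (EtDesc.pushCompSh f g').hom.app _ ≫
      (EtBC.pushCongrSh w).hom.app _ ≫ (EtDesc.pushCompSh g f').inv.app _)
  rw [Adjunction.homEquiv_unit] at h
  refine (congr(($h).hom.app (op V))).trans ?_
  simp [EtFound.bcSquare, EtDesc.pushCompSh, EtBC.pushCongrSh]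
  rfl

variable [AlgebraicGeometry.Etale g] [AlgebraicGeometry.Etale g'] [EtShriek.JCont g] [EtShriek.JCont g']

/-- restriction commutes with direct image -/
def psiSh (c : IsPullback g' f' f g) (F : EtDesc.Sh X) :
    (restrSh g).obj ((EtDesc.pushSh f).obj F) ⟶ (EtDesc.pushSh f').obj ((restrSh g').obj F) :=
  ⟨{ app := fun W => F.obj.map (sqObjIso c W.unop).inv.op
     naturality := fun W W' φ => by
      refine (F.obj.map_comp _ _).symm.trans (Eq.trans ?_ (F.obj.map_comp _ _))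
      refine congrArg F.obj.map (Quiver.Hom.unop_inj (MorphismProperty.Over.Hom.ext ?_))
      show (sqLeft c _).inv ≫ ((EtCoh.bc f).map ((EtShriek.compEtale g).map φ.unop)).left =
        ((EtShriek.compEtale g').map ((EtCoh.bc f').map φ.unop)).left ≫ (sqLeft c _).inv
      exact sqLeft_natural c _ _ φ.unop.left (MorphismProperty.Over.w φ.unop) _ _ }⟩

theorem psiSh_isIso (c : IsPullback g' f' f g) (F : EtDesc.Sh X) : IsIso (psiSh c F) := by
  have : ∀ W, IsIso ((psiSh c F).hom.app W) := fun W => inferInstanceAs (IsIso (F.obj.map _))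
  have : IsIso ((sheafToPresheaf _ _).map (psiSh c F)) := NatIso.isIso_of_isIso_app (psiSh c F).hom
  exact isIso_of_reflects_iso (psiSh c F) (sheafToPresheaf _ _)

theorem isIso_baseChange0Sh_etale (c : IsPullback g' f' f g) (F : EtDesc.Sh X) :
    IsIso (EtBC.baseChange0Sh f g f' g' c.w F) := by
  have key : (restrPullIsoSh g).hom.app ((EtDesc.pushSh f).obj F) ≫ EtBC.baseChange0Sh f g f' g' c.w F =
      psiSh c F ≫ (EtDesc.pushSh f').map ((restrPullIsoSh g').hom.app F) := by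
    apply ((restrPushAdjSh g).homEquiv _ _).injective
    rw [Adjunction.homEquiv_unit, Adjunction.homEquiv_unit, Functor.map_comp, Functor.map_comp,
      ← Category.assoc, ← unitSh_eq]
    apply ObjectProperty.hom_ext
    apply NatTrans.ext
    funext V
    refine (baseChange0Sh_unit f g f' g' c.w F V.unop).trans ?_
    rw [unitSh_eq g']
    let r := (restrPullIsoSh g').hom.app F
    show (F.obj.map ((DualLib.compBcAdj g').counit.app ((EtCoh.bc f).obj V.unop)).op ≫
        r.hom.app (op ((EtCoh.bc g').obj ((EtCoh.bc f).obj V.unop)))) ≫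
      ((EtDesc.pullSh g').obj F).obj.map (EtFound.bcSquare c.w V.unop).op =
      F.obj.map ((EtCoh.bc f).map ((DualLib.compBcAdj g).counit.app V.unop)).op ≫
        F.obj.map (sqObjIso c ((EtCoh.bc g).obj V.unop)).inv.op ≫ r.hom.app _
    rw [Category.assoc]
    refine (congrArg (_ ≫ ·) (r.hom.naturality _).symm).trans ?_
    show F.obj.map _ ≫ F.obj.map ((EtShriek.compEtale g').map (EtFound.bcSquare c.w V.unop)).op ≫ _ = _
    rw [← F.obj.map_comp_assoc, ← F.obj.map_comp_assoc]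
    refine congrArg (· ≫ _) (congrArg F.obj.map (Quiver.Hom.unop_inj (MorphismProperty.Over.Hom.ext ?_)))
    let m := (DualLib.compBcAdj g).counit.app V.unop
    apply pullback.hom_ext
    · exact (Category.assoc _ _ _).trans ((EtFound.bcSquare_fst c.w V.unop).trans (Eq.symm
        ((Category.assoc _ _ _).trans ((congrArg (_ ≫ ·) (map_fst f m)).trans ((Category.assoc _ _ _).symm.trans
          (congrArg (· ≫ m.left) (sqLeft_inv_fst c _)))))))
    · exact (Category.assoc _ _ _).trans ((congrArg (_ ≫ ·) pullback.condition).trans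
        ((Category.assoc _ _ _).symm.trans ((congrArg (· ≫ g') (MorphismProperty.Over.w (EtFound.bcSquare c.w V.unop))).trans
          (Eq.symm ((Category.assoc _ _ _).trans ((congrArg (_ ≫ ·) (map_snd f m)).trans (sqLeft_inv_snd c _)))))))
  have := psiSh_isIso c F
  have i : IsIso ((restrPullIsoSh g).hom.app ((EtDesc.pushSh f).obj F) ≫ EtBC.baseChange0Sh f g f' g' c.w F) := by
    rw [key]; infer_instance
  exact @IsIso.of_isIso_comp_left _ _ _ _ _ _ _ inferInstance i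

end Etale

/-- isomorphisms of sheaves of sets are detected on an etale covering -/
theorem isIsoSh_of_covers {X : Scheme.{u}} {ι : Type u} (U : ι → X.Etale) (hU : EtCoh.Covers U)
    {F G : EtDesc.Sh X} (φ : F ⟶ G) (h : ∀ i, IsIso ((EtDesc.pullSh (U i).hom).map φ)) : IsIso φ := by
  refine EtFound.isIso_of_stalks φ fun Ω _ _ ξ => ?_
  obtain ⟨i, ζ, rfl⟩ := exists_lift_of_covers U hU ξ
  have := h i
  have h1 : IsIso ((Scheme.pointSmallEtale (ζ ≫ (U i).hom)).sheafFiber.map φ) := by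
    rw [← NatIso.isIso_map_iff (EtFound.sheafFiberPullIso (A := Type (u + 1)) (U i).hom ζ) φ]
    exact inferInstanceAs (IsIso ((Scheme.pointSmallEtale ζ).sheafFiber.map ((EtDesc.pullSh (U i).hom).map φ)))
  exact (isIso_iff_bijective ((Scheme.pointSmallEtale (ζ ≫ (U i).hom)).sheafFiber.map φ)).1 h1

theorem isIso_baseChange0Sh_congr {W S T Z : Scheme.{u}} {f f' : W ⟶ S} (hf : f = f') {k k' : Z ⟶ T} (hk : k = k')
    (g : T ⟶ S) (j : Z ⟶ W) (w : k ≫ g = j ≫ f) (w' : k' ≫ g = j ≫ f') (F : EtDesc.Sh T)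
    (h : IsIso (EtBC.baseChange0Sh g f j k w F)) : IsIso (EtBC.baseChange0Sh g f' j k' w' F) := by
  subst hf hk
  exact h

variable {X S Y T U V Tv Yu : Scheme.{u}} {f : X ⟶ S} {g : T ⟶ S} {h : Y ⟶ X} {e : Y ⟶ T}

/-- one chart -/
theorem isIso_pull_baseChange0Sh (c : IsPullback e h g f)
    (u₀ : U ⟶ X) [AlgebraicGeometry.Etale u₀] (v : V ⟶ S) [AlgebraicGeometry.Etale v] (a : U ⟶ V)
    (ha : a ≫ v = u₀ ≫ f) (gi : Tv ⟶ V) (ti : Tv ⟶ T) (cT : IsPullback ti gi g v) (hi : Yu ⟶ U)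
    (ei : Yu ⟶ Tv) (cY : IsPullback ei hi gi a) (F : EtDesc.Sh T)
    (hloc : IsIso (EtBC.baseChange0Sh gi a hi ei cY.w ((EtDesc.pullSh ti).obj F))) :
    IsIso ((EtDesc.pullSh u₀).map (EtBC.baseChange0Sh g f h e c.w F)) := by
  have hc : (ei ≫ ti) ≫ g = (hi ≫ u₀) ≫ f := by
    rw [Category.assoc, cT.w, ← Category.assoc, cY.w, Category.assoc, ha, Category.assoc]
  let k := c.lift (ei ≫ ti) (hi ≫ u₀) hc
  have hke : k ≫ e = ei ≫ ti := c.lift_fst _ _ _
  have hkh : k ≫ h = hi ≫ u₀ := c.lift_snd _ _ _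
  have outer : IsPullback (k ≫ e) hi g (u₀ ≫ f) := by
    rw [hke, ← ha]
    exact cY.paste_horiz cT
  have ck : IsPullback k hi h u₀ := IsPullback.of_right outer hkh c
  have : AlgebraicGeometry.Etale ti := MorphismProperty.of_isPullback cT.flip ‹AlgebraicGeometry.Etale v›
  have : AlgebraicGeometry.Etale k := MorphismProperty.of_isPullback ck.flip ‹AlgebraicGeometry.Etale u₀›
  have := EtFound.jCont v
  have := EtFound.jCont u₀
  have := EtFound.jCont ti
  have := EtFound.jCont k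
  have h1 := isIso_baseChange0Sh_etale cT F
  have hs := baseChange0Sh_hpaste v g gi ti cT.w a hi ei cY.w (cY.paste_horiz cT).w F
  have a0 : IsIso ((EtDesc.pullSh a).map (EtBC.baseChange0Sh g v gi ti cT.w F) ≫
      EtBC.baseChange0Sh gi a hi ei cY.w ((EtDesc.pullSh ti).obj F)) :=
    @IsIso.comp_isIso _ _ _ _ _ _ _ (Functor.map_isIso _ _) hloc
  have a1 : IsIso (EtBC.baseChange0Sh g (a ≫ v) hi (ei ≫ ti) (cY.paste_horiz cT).w F ≫
      (EtDesc.pushSh hi).map ((EtDesc.pullCompSh ei ti).hom.app F)) :=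
    hs ▸ @IsIso.comp_isIso _ _ _ _ _ _ _ inferInstance a0
  have small := @IsIso.of_isIso_comp_right _ _ _ _ _ _ _ (Functor.map_isIso _ _) a1
  have big : IsIso (EtBC.baseChange0Sh g (u₀ ≫ f) hi (k ≫ e) outer.w F) :=
    isIso_baseChange0Sh_congr ha hke.symm g hi (cY.paste_horiz cT).w outer.w F small
  have h2 := isIso_baseChange0Sh_etale ck ((EtDesc.pullSh e).obj F)
  have hp := baseChange0Sh_hpaste f g h e c.w u₀ hi k ck.w outer.w F
  have a2 : IsIso ((EtDesc.pullCompSh u₀ f).hom.app ((EtDesc.pushSh g).obj F) ≫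
      (EtDesc.pullSh u₀).map (EtBC.baseChange0Sh g f h e c.w F) ≫
        EtBC.baseChange0Sh h u₀ hi k ck.w ((EtDesc.pullSh e).obj F)) :=
    hp.symm ▸ @IsIso.comp_isIso _ _ _ _ _ _ _ big (Functor.map_isIso _ _)
  have a3 := @IsIso.of_isIso_comp_left _ _ _ _ _ _ _ inferInstance a2
  exact @IsIso.of_isIso_comp_right _ _ _ _ _ _ _ h2 a3

end Groth.Agent.EtBCA.BCQ
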