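import Groth.Agent.EtBCA.BCQ.Main

/-!
# Base change maps built from edge maps, as maps of derived functors
-/

set_option autoImplicit false
set_option backward.isDefEq.respectTransparency false

universe v₁ v₂ v₃ v₄ u₁ u₂ u₃ u₄

open CategoryTheory CategoryTheory.Limits HomologicalComplex

noncomputable section

namespace Groth.Agent.EtBCA.BCQ

variable {A : Type u₁} [Category.{v₁} A] [Abelian A] [HasInjectiveResolutions A]
  {B : Type u₂} [Category.{v₂} B] [Abelian B] [HasInjectiveResolutions B]
  {C : Type u₃} [Category.{v₃} C] [Abelian C]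
  {D : Type u₄} [Category.{v₄} D] [Abelian D]
  {Φ : A ⥤ C} [Φ.Additive] {Ψ : B ⥤ D} [Ψ.Additive]
  {E : A ⥤ B} [E.Additive] [PreservesFiniteLimits E] [PreservesFiniteColimits E]
  {G : C ⥤ D} [G.Additive] [PreservesFiniteLimits G] [PreservesFiniteColimits G]
  {E' : B ⥤ A} [E'.Additive] [E'.PreservesInjectiveObjects] (adjE : E ⊣ E')
  {G' : D ⥤ C} [G'.Additive] [PreservesFiniteLimits G'] (adjG : G ⊣ G')
  (e : E' ⋙ Φ ≅ Ψ ⋙ G')

/-- the base change map on `Φ` itself -/
def mate0 : Φ ⋙ G ⟶ E ⋙ Ψ where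
  app X := (adjG.homEquiv _ _).symm (Φ.map (adjE.unit.app X) ≫ e.hom.app (E.obj X))
  naturality X Y f := by
    dsimp
    rw [← adjG.homEquiv_naturality_left_symm, ← adjG.homEquiv_naturality_right_symm, ← Φ.map_comp_assoc,
      show f ≫ adjE.unit.app Y = adjE.unit.app X ≫ E'.map (E.map f) from adjE.unit.naturality f,
      Φ.map_comp, Category.assoc, Category.assoc]
    exact congrArg (fun t => (adjG.homEquiv _ _).symm (_ ≫ t)) (e.hom.naturality (E.map f))

/-- the counit termwise -/
def counitCx (K : CochainComplex D ℕ) :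
    (G.mapHomologicalComplex _).obj ((G'.mapHomologicalComplex _).obj K) ⟶ K where
  f n := adjG.counit.app (K.X n)
  comm' i j _ := (adjG.counit.naturality (K.d i j)).symm

/-- the counit and the comparison of cohomology of a complex with that of its image -/
theorem map_homologyComparison_counit (K : CochainComplex D ℕ) (q : ℕ) :
    G.map (RDer.homologyComparison G' K q) ≫ adjG.counit.app (K.homology q) =
      (hIso G ((G'.mapHomologicalComplex _).obj K) q).inv ≫
        homologyMap (counitCx adjG K) q := by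
  rw [Iso.eq_inv_comp, ← cancel_epi (((G.mapHomologicalComplex _).obj
    ((G'.mapHomologicalComplex _).obj K)).homologyπ q), zIso_π_assoc, homologyπ_naturality,
    ← G.map_comp_assoc, RDer.homologyπ_homologyComparison, G.map_comp, Category.assoc,
    show G.map (G'.map (K.homologyπ q)) ≫ adjG.counit.app (K.homology q) =
      adjG.counit.app (K.cycles q) ≫ K.homologyπ q from adjG.counit.naturality (K.homologyπ q)]
  simp only [← Category.assoc]
  refine congrArg (· ≫ _) ?_
  simp only [Category.assoc]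
  rw [← cancel_mono (K.iCycles q), cyclesMap_i]
  simp only [Category.assoc, counitCx]
  rw [show adjG.counit.app (K.cycles q) ≫ K.iCycles q =
      G.map (G'.map (K.iCycles q)) ≫ adjG.counit.app (K.X q) from (adjG.counit.naturality (K.iCycles q)).symm,
    ← G.map_comp_assoc, RDer.cyclesComparison_i, zIso_i_assoc]

theorem homologyComparison_natural {K L : CochainComplex D ℕ} (m : K ⟶ L) (q : ℕ) :
    homologyMap ((G'.mapHomologicalComplex _).map m) q ≫ RDer.homologyComparison G' L q =
      RDer.homologyComparison G' K q ≫ G'.map (homologyMap m q) := by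
  rw [← cancel_epi (((G'.mapHomologicalComplex _).obj K).homologyπ q), homologyπ_naturality_assoc,
    RDer.homologyπ_homologyComparison, RDer.homologyπ_homologyComparison_assoc, ← G'.map_comp,
    homologyπ_naturality, G'.map_comp]
  simp only [← Category.assoc]
  refine congrArg (· ≫ _) ?_
  rw [← cancel_mono (G'.map (L.iCycles q)), Category.assoc, Category.assoc, RDer.cyclesComparison_i,
    cyclesMap_i, ← G'.map_comp, cyclesMap_i, G'.map_comp, RDer.cyclesComparison_i_assoc]
  rfl

/-- The map made of the unit and the edge maps is the transpose of the map of derived functors. -/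
theorem edge_eq_bc (q : ℕ) (X : A) :
    (adjG.homEquiv _ _).symm ((Φ.rightDerived q).map (adjE.unit.app X) ≫
        RDer.edgeIn E' Φ q (E.obj X) ≫ (RDer.rightDerivedIso e q).hom.app (E.obj X) ≫
          RDer.edgeOut Ψ G' q (E.obj X)) =
      bc (mate0 adjE adjG e) q X := by
  let I := injectiveResolution X
  let K := injectiveResolution (E'.obj (E.obj X))
  let J := injectiveResolution (E.obj X)
  obtain ⟨d, hd⟩ := exists_lift (E := E) I J
  rw [bc_eq _ q I J d hd]
  obtain ⟨φ, hφ⟩ := SESResLib.exists_desc (adjE.unit.app X) I K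
  let ψ := RDer.descToInjectives (𝟙 (E'.obj (E.obj X))) K.cocomplex K.ι
    ((E'.mapHomologicalComplex _).obj J.cocomplex) (RDer.mapAug E' J.ι)
  let ξ : I.cocomplex ⟶ (E'.mapHomologicalComplex _).obj J.cocomplex :=
    (NatTrans.mapHomologicalComplex adjE.unit _).app I.cocomplex ≫ (E'.mapHomologicalComplex _).map d
  have key := homologyMap_eq I.ι (L := (E'.mapHomologicalComplex _).obj J.cocomplex) Φ (φ ≫ ψ) ξ (by
    have hψ : K.ι.f 0 ≫ ψ.f 0 = 𝟙 _ ≫ (RDer.mapAug E' J.ι).f 0 := RDer.ι_descToInjectives_f_zero _ _ _ _ _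
    have hJ : (RDer.mapAug E' J.ι).f 0 = E'.map (J.ι.f 0) := by simp [RDer.mapAug]
    rw [comp_f, show I.ι.f 0 ≫ φ.f 0 ≫ ψ.f 0 = adjE.unit.app X ≫ K.ι.f 0 ≫ ψ.f 0 from
      (Category.assoc _ _ _).symm.trans ((congrArg (· ≫ ψ.f 0) hφ).trans (Category.assoc _ _ _))]
    refine (congrArg (adjE.unit.app X ≫ ·) (hψ.trans ((Category.id_comp _).trans hJ))).trans ?_
    change adjE.unit.app X ≫ E'.map (J.ι.f 0) = I.ι.f 0 ≫ adjE.unit.app (I.cocomplex.X 0) ≫ E'.map (d.f 0)
    rw [← show E.map (I.ι.f 0) ≫ d.f 0 = J.ι.f 0 from hd, E'.map_comp]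
    exact (adjE.unit.naturality_assoc (I.ι.f 0) _).symm) q
  have e₁ : (Φ.rightDerived q).map (adjE.unit.app X) ≫ (K.isoRightDerivedObj Φ q).hom =
      (I.isoRightDerivedObj Φ q).hom ≫ homologyMap ((Φ.mapHomologicalComplex _).map φ) q :=
    InjectiveResolution.isoRightDerivedObj_hom_naturality _ I K φ hφ Φ q
  have e₂ : (RDer.rightDerivedIso e q).hom.app (E.obj X) =
      (J.isoRightDerivedObj (E' ⋙ Φ) q).hom ≫
        homologyMap ((NatTrans.mapHomologicalComplex e.hom _).app J.cocomplex) q ≫
          (J.isoRightDerivedObj (Ψ ⋙ G') q).inv :=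
    InjectiveResolution.rightDerived_app_eq e.hom J q
  let m : (Φ.mapHomologicalComplex _).obj I.cocomplex ⟶
      (G'.mapHomologicalComplex _).obj ((Ψ.mapHomologicalComplex _).obj J.cocomplex) :=
    (Φ.mapHomologicalComplex _).map ξ ≫ (NatTrans.mapHomologicalComplex e.hom _).app J.cocomplex
  have main : (Φ.rightDerived q).map (adjE.unit.app X) ≫
        RDer.edgeIn E' Φ q (E.obj X) ≫ (RDer.rightDerivedIso e q).hom.app (E.obj X) ≫
          RDer.edgeOut Ψ G' q (E.obj X) =
      (I.isoRightDerivedObj Φ q).hom ≫ homologyMap m q ≫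
        RDer.homologyComparison G' ((Ψ.mapHomologicalComplex _).obj J.cocomplex) q ≫
          G'.map (J.isoRightDerivedObj Ψ q).inv := by
    dsimp only [RDer.edgeIn, RDer.edgeOut]
    rw [e₂]
    simp only [Category.assoc]
    rw [reassoc_of% e₁, Iso.inv_hom_id_assoc, Iso.inv_hom_id_assoc]
    refine congrArg ((I.isoRightDerivedObj Φ q).hom ≫ ·) ?_
    refine (Category.assoc _ _ _).symm.trans ?_
    refine Eq.trans ?_ ((congrArg (· ≫ _) (homologyMap_comp _ _ _).symm).trans rfl)
    refine (congrArg (· ≫ _) ((homologyMap_comp _ _ _).symm.trans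
      ((congrArg (homologyMap · q) (Functor.map_comp _ _ _).symm).trans key))).trans ?_
    exact (Category.assoc _ _ _).symm
  rw [main, Adjunction.homEquiv_counit]
  dsimp only [form]
  simp only [G.map_comp, Category.assoc]
  refine congrArg (G.map (I.isoRightDerivedObj Φ q).hom ≫ ·) ?_
  rw [show G.map (G'.map (J.isoRightDerivedObj Ψ q).inv) ≫ adjG.counit.app _ =
    adjG.counit.app _ ≫ (J.isoRightDerivedObj Ψ q).inv from adjG.counit.naturality _,
    reassoc_of% (map_homologyComparison_counit adjG ((Ψ.mapHomologicalComplex _).obj J.cocomplex) q)]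
  simp only [← Category.assoc]
  refine congrArg (· ≫ _) ?_
  rw [Category.assoc]
  refine (Category.assoc _ _ _).symm.trans ?_
  have e₅ : G.map (homologyMap m q) ≫ (hIso G _ q).inv =
      (hIso G _ q).inv ≫ homologyMap ((G.mapHomologicalComplex _).map m) q := by
    rw [Iso.comp_inv_eq, Category.assoc, hIso_natural, Iso.inv_hom_id_assoc]
  rw [e₅, Category.assoc, ← homologyMap_comp]
  refine congrArg ((hIso G _ q).inv ≫ ·) (congrArg (homologyMap · q) ?_)
  ext n
  change G.map (Φ.map (adjE.unit.app _ ≫ E'.map (d.f n)) ≫ e.hom.app _) ≫ adjG.counit.app _ =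
    ((adjG.homEquiv _ _).symm (Φ.map (adjE.unit.app _) ≫ e.hom.app _)) ≫ Ψ.map (d.f n)
  rw [← Adjunction.homEquiv_naturality_right_symm, Adjunction.homEquiv_counit, Φ.map_comp,
    Category.assoc, Category.assoc]
  exact congrArg (fun t => G.map (_ ≫ t) ≫ _) (e.hom.naturality (d.f n))

end Groth.Agent.EtBCA.BCQ
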